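import Cfsg.Agent.H13.ONan.Field

/-!
O'Nan's configuration: the linear space is a projective space over the coordinate field.
-/

set_option autoImplicit false
set_option linter.style.haveILetI false
set_option linter.unusedSectionVars false

namespace H13.ONan.Conf

open MulAction

variable {G X : Type*} [Group G] [MulAction G X] {p : ℕ} [Fact p.Prime]

/-- A projective model of the linear space: `R z w` says that `w` represents the point `z`. -/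
structure Model (C : Conf G X p) (F : Type*) [Field F] (W : Type*) [AddCommGroup W] [Module F W]
    where
  R : X → W → Prop
  ne : ∀ {z w}, R z w → w ≠ 0
  ex : ∀ z, ∃ w, R z w
  surj : ∀ {w}, w ≠ 0 → ∃ z, R z w
  uniq : ∀ {z z' w}, R z w → R z' w → z = z'
  smul : ∀ {z w} {c : F}, R z w → c ≠ 0 → R z (c • w)
  prop : ∀ {z w w'}, R z w → R z w' → ∃ c : F, c • w = w'
  line : ∀ {z₁ z₂ z w₁ w₂ w}, z₁ ≠ z₂ → R z₁ w₁ → R z₂ w₂ → R z w →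
    (z ∈ C.line z₁ z₂ ↔ ∃ s t : F, s • w₁ + t • w₂ = w)

/-- Transport of a model along a linear isomorphism. -/
def Model.map {C : Conf G X p} {F : Type*} [Field F] {W W' : Type*} [AddCommGroup W] [Module F W]
    [AddCommGroup W'] [Module F W'] (m : Model C F W) (l : W ≃ₗ[F] W') : Model C F W' where
  R z w := m.R z (l.symm w)
  ne h h0 := m.ne h (by rw [h0, map_zero])
  ex z := let ⟨w, hw⟩ := m.ex z; ⟨l w, by rwa [l.symm_apply_apply]⟩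
  surj {w} h := m.surj (fun h0 => h (l.symm.injective (h0.trans (map_zero _).symm)))
  uniq h h' := m.uniq h h'
  smul h hc := by rw [map_smul]; exact m.smul h hc
  prop h h' := let ⟨c, hc⟩ := m.prop h h'; ⟨c, l.symm.injective (by rw [map_smul, hc])⟩
  line hne h₁ h₂ h := by
    rw [m.line hne h₁ h₂ h]
    refine exists_congr fun s => exists_congr fun t => ?_
    rw [← map_smul, ← map_smul, ← map_add, l.symm.injective.eq_iff]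

namespace Frame

variable {C : Conf G X p} (Φ : Frame C) {F : Type*} [Field F] [Module F Φ.V]

theorem exists_val {r : X} (hr : r ∉ Φ.H) : ∃ s : Φ.V, Φ.val s • Φ.o = r := by
  rcases eq_or_ne Φ.o r with rfl | hne
  · exact ⟨0, by rw [val_zero, one_smul]⟩
  · obtain ⟨u, hu, -, t, ht, hte⟩ := Φ.hH.exists_move Φ.ho hr hne
    exact ⟨Φ.tr t (C.pfix_le_tgrp hu ht), hte⟩

theorem val_smul_eq {s t : Φ.V} (h : Φ.val s • Φ.o = Φ.val t • Φ.o) : s = t :=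
  Φ.val_inj (Φ.hH.tgrp_eq_of_smul (Φ.val_mem s) (Φ.val_mem t) Φ.ho h)

theorem val_smul_not_mem (s : Φ.V) : Φ.val s • Φ.o ∉ Φ.H :=
  Φ.hH.smul_not_mem (Φ.hH.tgrp_fix (Φ.val_mem s)) Φ.ho

/-- The representation relation. -/
def Rep (z : X) (w : F × Φ.V) : Prop :=
  (z ∈ Φ.H ∧ w.1 = 0 ∧ w.2 ≠ 0 ∧ w.2 ∈ Φ.M z) ∨
    (z ∉ Φ.H ∧ w.1 ≠ 0 ∧ Φ.val (w.1⁻¹ • w.2) • Φ.o = z)

theorem rep_inside {z : X} (hz : z ∈ Φ.H) {w : F × Φ.V} (h : Φ.Rep z w) :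
    w.1 = 0 ∧ w.2 ≠ 0 ∧ w.2 ∈ Φ.M z := by
  rcases h with h | h
  · exact h.2
  · exact absurd hz h.1

theorem rep_outside {z : X} (hz : z ∉ Φ.H) {w : F × Φ.V} (h : Φ.Rep z w) :
    w.1 ≠ 0 ∧ Φ.val (w.1⁻¹ • w.2) • Φ.o = z := by
  rcases h with h | h
  · exact absurd h.1 hz
  · exact h.2

theorem rep_outside_eq {z : X} (hz : z ∉ Φ.H) {w : F × Φ.V} (h : Φ.Rep z w) {s : Φ.V}
    (hs : Φ.val s • Φ.o = z) : w.1 ≠ 0 ∧ w = w.1 • ((1 : F), s) := by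
  obtain ⟨h1, h2⟩ := Φ.rep_outside hz h
  refine ⟨h1, Prod.ext (by simp) ?_⟩
  rw [Prod.smul_snd, ← Φ.val_smul_eq (h2.trans hs.symm), smul_inv_smul₀ h1]

variable (hM : ∀ u ∈ Φ.H, ∀ (c : F), ∀ x ∈ Φ.M u, c • x ∈ Φ.M u)
  (hM1 : ∀ u ∈ Φ.H, ∀ x ∈ Φ.M u, x ≠ 0 → ∀ y ∈ Φ.M u, ∃ c : F, c • x = y)

include hM hM1

theorem line_mixed {u r z : X} (hu : u ∈ Φ.H) (hr : r ∉ Φ.H) {x s : Φ.V} (hx : x ∈ Φ.M u)
    (hx0 : x ≠ 0) (hs : Φ.val s • Φ.o = r) {w : F × Φ.V} (hw : Φ.Rep z w) :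
    z ∈ C.line u r ↔ ∃ α β : F, α • ((0 : F), x) + β • ((1 : F), s) = w := by
  have hur : u ≠ r := fun h => hr (h ▸ hu)
  constructor
  · intro hz
    rcases eq_or_ne z u with rfl | hzu
    · obtain ⟨h1, -, h3⟩ := Φ.rep_inside hu hw
      obtain ⟨c, hc⟩ := hM1 z hu x hx hx0 _ h3
      exact ⟨c, 0, Prod.ext (by simp [h1]) (by simp [hc])⟩
    have hzH : z ∉ Φ.H := fun h => hr (Φ.line_H hu h hzu.symm
      (by rw [C.line_eq_of_mem hur hz hzu]; exact C.right_mem_line u r))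
    obtain ⟨t, ht, hte⟩ := Φ.hH.exists_trans hu hr hz hzu
    obtain ⟨c, hc⟩ := hM1 u hu x hx hx0 (Φ.tr t (C.pfix_le_tgrp hu ht)) ht
    have hval : Φ.val (c • x + s) • Φ.o = z := by
      rw [hc, val_add, val_tr, mul_smul, hs, hte]
    obtain ⟨-, h2⟩ := Φ.rep_outside_eq hzH hw hval
    refine ⟨w.1 * c, w.1, ?_⟩
    conv_rhs => rw [h2]
    simp [smul_smul, mul_comm]
  · rintro ⟨α, β, rfl⟩
    by_cases hzH : z ∈ Φ.H
    · obtain ⟨h1, h2, h3⟩ := Φ.rep_inside hzH hw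
      simp at h1
      subst h1
      simp at h2 h3
      have : z = u := by
        by_contra hne
        have h4 := Φ.M_disj hne h3 (hM u hu α x hx)
        simp [h2.1, h2.2] at h4
      exact this ▸ C.left_mem_line u r
    · obtain ⟨h1, h2⟩ := Φ.rep_outside hzH hw
      simp at h1 h2
      rw [← h2, inv_smul_smul₀ h1, val_add, mul_smul, hs]
      exact C.A_line (C.pfix_le u Φ.H (hM u hu _ _ (hM u hu _ x hx))) (C.right_mem_line u r)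

theorem rep_line {z₁ z₂ z : X} {w₁ w₂ w : F × Φ.V} (hne : z₁ ≠ z₂) (h₁ : Φ.Rep z₁ w₁)
    (h₂ : Φ.Rep z₂ w₂) (h : Φ.Rep z w) :
    z ∈ C.line z₁ z₂ ↔ ∃ s t : F, s • w₁ + t • w₂ = w := by
  have mixed : ∀ {z₁ z₂ : X} {w₁ w₂ : F × Φ.V}, z₁ ∈ Φ.H → z₂ ∉ Φ.H → Φ.Rep z₁ w₁ →
      Φ.Rep z₂ w₂ → (z ∈ C.line z₁ z₂ ↔ ∃ s t : F, s • w₁ + t • w₂ = w) := by
    intro z₁ z₂ w₁ w₂ hH₁ hH₂ h₁ h₂
    obtain ⟨a1, a2, a3⟩ := Φ.rep_inside hH₁ h₁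
    obtain ⟨b1, b2⟩ := Φ.rep_outside hH₂ h₂
    rw [Φ.line_mixed hM hM1 hH₁ hH₂ a3 a2 b2 h]
    have f₂ : ((1 : F), w₂.1⁻¹ • w₂.2) = w₂.1⁻¹ • w₂ := Prod.ext (by simp [b1]) rfl
    have e₁ : w₁ = ((0 : F), w₁.2) := Prod.ext a1 rfl
    have e₂ : w₂ = w₂.1 • ((1 : F), w₂.1⁻¹ • w₂.2) :=
      Prod.ext (by simp) (by rw [Prod.smul_snd, smul_inv_smul₀ b1])
    constructor
    · rintro ⟨α, β, he⟩
      refine ⟨α, β * w₂.1⁻¹, ?_⟩
      rw [← e₁, f₂, smul_smul] at he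
      exact he
    · rintro ⟨s, t, he⟩
      refine ⟨s, t * w₂.1, ?_⟩
      rw [mul_smul, ← e₂, ← e₁]
      exact he
  by_cases hH₁ : z₁ ∈ Φ.H <;> by_cases hH₂ : z₂ ∈ Φ.H
  · obtain ⟨a1, a2, a3⟩ := Φ.rep_inside hH₁ h₁
    obtain ⟨b1, b2, b3⟩ := Φ.rep_inside hH₂ h₂
    constructor
    · intro hz
      have hzH := Φ.line_H hH₁ hH₂ hne hz
      obtain ⟨c1, -, c3⟩ := Φ.rep_inside hzH h
      obtain ⟨x, hx, y, hy, hxy⟩ := Φ.exists_add_eq hH₁ hH₂ hne hz c3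
      obtain ⟨s, hs⟩ := hM1 z₁ hH₁ _ a3 a2 x hx
      obtain ⟨t, ht⟩ := hM1 z₂ hH₂ _ b3 b2 y hy
      exact ⟨s, t, Prod.ext (by simp [a1, b1, c1]) (by simp [hs, ht, hxy])⟩
    · rintro ⟨s, t, rfl⟩
      by_cases hzH : z ∈ Φ.H
      · obtain ⟨-, c2, c3⟩ := Φ.rep_inside hzH h
        simp only [Prod.snd_add, Prod.smul_snd] at c2 c3
        obtain ⟨z', hz', hm⟩ := Φ.add_mem_line hH₁ hH₂ hne (hM z₁ hH₁ s _ a3) (hM z₂ hH₂ t _ b3)
        by_contra hz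
        exact c2 (Φ.M_disj (fun h' => hz (by rw [h']; exact hz')) c3 hm)
      · exact absurd (by simp [a1, b1]) (Φ.rep_outside hzH h).1
  · exact mixed hH₁ hH₂ h₁ h₂
  · rw [C.line_symm hne, mixed hH₂ hH₁ h₂ h₁]
    exact ⟨fun ⟨s, t, he⟩ => ⟨t, s, by rw [add_comm]; exact he⟩,
      fun ⟨s, t, he⟩ => ⟨t, s, by rw [add_comm]; exact he⟩⟩
  · obtain ⟨b1, b2⟩ := Φ.rep_outside hH₁ h₁
    obtain ⟨d1, d2⟩ := Φ.rep_outside hH₂ h₂
    obtain ⟨u, hu, hul, t, ht, hte⟩ := Φ.hH.exists_move hH₁ hH₂ hne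
    set x := Φ.tr t (C.pfix_le_tgrp hu ht) with hx
    have hx0 : x ≠ 0 := fun h0 => hne (by
      rw [← hte, show t = 1 from Φ.val_eq_one.2 h0, one_smul])
    set s₁ := w₁.1⁻¹ • w₁.2 with hs₁
    set s₂ := w₂.1⁻¹ • w₂.2 with hs₂
    have hsum : x + s₁ = s₂ := Φ.val_smul_eq (by rw [d2, val_add, mul_smul, b2, val_tr, hte])
    have hl : C.line z₁ z₂ = C.line u z₁ := by
      have hu₁ : u ≠ z₁ := fun h' => hH₁ (h' ▸ hu)
      rw [C.line_symm hu₁, C.line_eq_of_mem hne hul hu₁]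
    rw [hl, Φ.line_mixed hM hM1 hu hH₁ (x := x) ht hx0 b2 h]
    have e₁ : w₁ = w₁.1 • ((1 : F), s₁) :=
      Prod.ext (by simp) (by rw [Prod.smul_snd, smul_inv_smul₀ b1])
    have e₂ : w₂ = w₂.1 • (((0 : F), x) + ((1 : F), s₁)) :=
      Prod.ext (by simp) (by rw [Prod.smul_snd, Prod.snd_add, hsum, smul_inv_smul₀ d1])
    have f₁ : ((1 : F), s₁) = w₁.1⁻¹ • w₁ := Prod.ext (by simp [b1]) rfl
    have f₂ : ((0 : F), x) + ((1 : F), s₁) = w₂.1⁻¹ • w₂ := Prod.ext (by simp [d1]) hsum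
    constructor
    · rintro ⟨α, β, rfl⟩
      refine ⟨(β - α) * w₁.1⁻¹, α * w₂.1⁻¹, ?_⟩
      rw [mul_smul, mul_smul, ← f₁, ← f₂, sub_smul, smul_add]
      abel
    · rintro ⟨α, β, rfl⟩
      refine ⟨β * w₂.1, α * w₁.1 + β * w₂.1, ?_⟩
      conv_rhs => rw [e₁, e₂]
      rw [add_smul, smul_smul, smul_smul, smul_add]
      abel

/-- The projective model attached to a frame. -/
theorem exists_model : Nonempty (Model C F (F × Φ.V)) := by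
  refine ⟨⟨Φ.Rep, ?_, ?_, ?_, ?_, ?_, ?_, fun hne h₁ h₂ h => Φ.rep_line hM hM1 hne h₁ h₂ h⟩⟩
  · rintro z w (⟨-, -, h, -⟩ | ⟨-, h, -⟩) rfl <;> exact h rfl
  · intro z
    by_cases hz : z ∈ Φ.H
    · obtain ⟨x, hx, hx0⟩ := Φ.exists_ne_zero hz
      exact ⟨(0, x), Or.inl ⟨hz, rfl, hx0, hx⟩⟩
    · obtain ⟨s, hs⟩ := Φ.exists_val hz
      exact ⟨(1, s), Or.inr ⟨hz, one_ne_zero, by rw [inv_one, one_smul]; exact hs⟩⟩
  · intro w hw
    by_cases h1 : w.1 = 0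
    · have h2 : w.2 ≠ 0 := fun h => hw (Prod.ext h1 h)
      obtain ⟨u, hu, -, hm⟩ := Φ.exists_M w.2 h2
      exact ⟨u, Or.inl ⟨hu, h1, h2, hm⟩⟩
    · exact ⟨_, Or.inr ⟨Φ.val_smul_not_mem _, h1, rfl⟩⟩
  · rintro z z' w (⟨-, a1, a2, a3⟩ | ⟨-, a1, a2⟩) (⟨-, b1, -, b3⟩ | ⟨-, b1, b2⟩)
    · by_contra hne; exact a2 (Φ.M_disj hne a3 b3)
    · exact absurd a1 b1
    · exact absurd b1 a1
    · exact a2.symm.trans b2
  · rintro z w c (⟨hz, a1, a2, a3⟩ | ⟨hz, a1, a2⟩) hc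
    · exact Or.inl ⟨hz, by simp [a1], smul_ne_zero hc a2, hM z hz c _ a3⟩
    · refine Or.inr ⟨hz, mul_ne_zero hc a1, ?_⟩
      rw [Prod.smul_fst, Prod.smul_snd, smul_eq_mul, smul_smul, mul_inv, mul_comm c⁻¹, mul_assoc,
        inv_mul_cancel₀ hc, mul_one]
      exact a2
  · intro z w w' h h'
    by_cases hz : z ∈ Φ.H
    · obtain ⟨a1, a2, a3⟩ := Φ.rep_inside hz h
      obtain ⟨b1, -, b3⟩ := Φ.rep_inside hz h'
      obtain ⟨c, hc⟩ := hM1 z hz _ a3 a2 _ b3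
      exact ⟨c, Prod.ext (by simp [a1, b1]) hc⟩
    · obtain ⟨s, hs⟩ := Φ.exists_val hz
      obtain ⟨a1, a2⟩ := Φ.rep_outside_eq hz h hs
      obtain ⟨-, b2⟩ := Φ.rep_outside_eq hz h' hs
      refine ⟨w'.1 * w.1⁻¹, ?_⟩
      conv_lhs => rw [a2]
      rw [smul_smul, mul_assoc]
      simp only [Prod.smul_fst, smul_eq_mul, mul_one, inv_mul_cancel₀ a1]
      exact b2.symm

end Frame

end H13.ONan.Conf
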