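import Cfsg.Agent.H13.ONan.Shear
import Cfsg.Agent.H78.JField

/-!
O'Nan's configuration: the shear homomorphisms make the translation group a vector space over a
finite field, whose one-dimensional subspaces are the components.
-/

set_option autoImplicit false
set_option linter.style.haveILetI false
set_option linter.unusedSectionVars false

namespace H13.ONan.Conf.Frame

open MulAction

variable {G X : Type*} [Group G] [MulAction G X] {p : ℕ} [Fact p.Prime]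
  {C : Conf G X p} (Φ : Frame C)

theorem nsmul_M {u : X} (x : Φ.M u) : p • x = 0 := by
  have h : ∀ n : ℕ, Φ.val (n • (x : Φ.V)) = Φ.val x ^ n := fun n => by
    induction n with
    | zero => rw [zero_smul, pow_zero]; exact Φ.val_zero
    | succ n ih => rw [succ_nsmul, val_add, ih, pow_succ]
  refine Subtype.ext (Φ.val_inj ?_)
  rw [AddSubgroup.coe_nsmul, h, AddSubgroup.coe_zero, val_zero]
  exact C.exp u _ x.2.1

/-- A shear homomorphism factors through a non-zero one, given the composition property. -/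
theorem exists_factor {u v w : X} (hu : u ∈ Φ.H) (hv : v ∈ Φ.H) (hw : w ∈ Φ.H) (huv : u ≠ v)
    (huw : u ≠ w) (hvw : v ≠ w) {χ : Φ.M v →+ Φ.M w} (hχ : χ ∈ Φ.Sv v hw) (hχ0 : χ ≠ 0)
    (hmul : ∀ f ∈ Φ.Sv u hv, χ.comp f ∈ Φ.Sv u hw) {f : Φ.M u →+ Φ.M w} (hf : f ∈ Φ.Sv u hw) :
    ∃ f' ∈ Φ.Sv u hv, ∀ x, χ (f' x) = f x := by
  obtain ⟨x₀, hx₀, hx₀n⟩ := Φ.exists_ne_zero hu
  obtain ⟨h, -, -, h2⟩ := Φ.Sv_inv hv hw hvw hχ hχ0
  have hx : (⟨x₀, hx₀⟩ : Φ.M u) ≠ 0 := fun h0 => hx₀n (congrArg Subtype.val h0)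
  obtain ⟨f', hf', hf'e⟩ := Φ.Sv_exists hu hv huv hx (h (f ⟨x₀, hx₀⟩))
  have heq : χ.comp f' = f := Φ.Sv_inj hu hw huw (hmul f' hf') hf hx
    (by rw [AddMonoidHom.comp_apply, hf'e, h2])
  exact ⟨f', hf', fun x => DFunLike.congr_fun heq x⟩

/-- The coordinate field. -/
theorem exists_module {a b : X} (ha : a ∈ Φ.H) (hb : b ∈ Φ.H) (hab : a ≠ b) :
    ∃ (F : Type) (_ : Field F) (_ : Fintype F) (_ : Module F Φ.V),
      (∀ u ∈ Φ.H, ∀ (c : F), ∀ x ∈ Φ.M u, c • x ∈ Φ.M u) ∧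
      ∀ u ∈ Φ.H, ∀ x ∈ Φ.M u, x ≠ 0 → ∀ y ∈ Φ.M u, ∃ c : F, c • x = y := by
  classical
  haveI := Φ.finite_V
  obtain ⟨x₀, hx₀, hx₀n⟩ := Φ.exists_ne_zero ha
  set xa : Φ.M a := ⟨x₀, hx₀⟩ with hxa
  have hxa0 : xa ≠ 0 := fun h0 => hx₀n (congrArg Subtype.val h0)
  haveI : Nontrivial (Φ.M a) := ⟨⟨xa, 0, hxa0⟩⟩
  obtain ⟨y₀, hy₀, hy₀n⟩ := Φ.exists_ne_zero hb
  obtain ⟨f₀, hf₀, hf₀e⟩ := Φ.Sv_exists ha hb hab hxa0 ⟨y₀, hy₀⟩
  have hf₀0 : f₀ ≠ 0 := fun h0 => hy₀n (by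
    rw [h0, AddMonoidHom.zero_apply] at hf₀e
    exact (congrArg Subtype.val hf₀e).symm)
  obtain ⟨g₀, hg₀, hgf, hfg⟩ := Φ.Sv_inv ha hb hab hf₀ hf₀0
  let K : AddSubgroup (AddMonoid.End (Φ.M a)) :=
    { carrier := {k | ∃ f ∈ Φ.Sv a hb, ∀ x, k x = g₀ (f x)}
      zero_mem' := ⟨0, zero_mem _, fun x => by simp⟩
      add_mem' := by
        rintro k k' ⟨f, hf, hk⟩ ⟨f', hf', hk'⟩
        exact ⟨f + f', add_mem hf hf', fun x => by
          rw [AddMonoidHom.add_apply, map_add, ← hk, ← hk']; rfl⟩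
      neg_mem' := by
        rintro k ⟨f, hf, hk⟩
        exact ⟨-f, neg_mem hf, fun x => by
          rw [AddMonoidHom.neg_apply, map_neg, ← hk]; rfl⟩ }
  let L : AddSubgroup (AddMonoid.End (Φ.M a)) :=
    { carrier := {k | ∃ g ∈ Φ.Sv b ha, ∀ x, k x = g (f₀ x)}
      zero_mem' := ⟨0, zero_mem _, fun x => by simp⟩
      add_mem' := by
        rintro k k' ⟨f, hf, hk⟩ ⟨f', hf', hk'⟩
        exact ⟨f + f', add_mem hf hf', fun x => by
          rw [AddMonoidHom.add_apply, ← hk, ← hk']; rfl⟩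
      neg_mem' := by
        rintro k ⟨f, hf, hk⟩
        exact ⟨-f, neg_mem hf, fun x => by
          rw [AddMonoidHom.neg_apply, ← hk]; rfl⟩ }
  have hKL : ∀ k ∈ K, k ≠ 0 → ∃ l ∈ L, k * l = 1 ∧ l * k = 1 := by
    rintro k ⟨f, hf, hk⟩ hk0
    have hf0 : f ≠ 0 := fun h0 => hk0 (DFunLike.ext _ _ fun x => by rw [hk, h0]; simp)
    obtain ⟨g, hg, h1, h2⟩ := Φ.Sv_inv ha hb hab hf hf0
    refine ⟨g.comp f₀, ⟨g, hg, fun x => rfl⟩, DFunLike.ext _ _ fun x => ?_, DFunLike.ext _ _ fun x => ?_⟩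
    · show k (g (f₀ x)) = x
      rw [hk, h2, hgf]
    · show g (f₀ (k x)) = x
      rw [hk, hfg, h1]
  have hLK : ∀ l ∈ L, l ≠ 0 → ∃ k ∈ K, l * k = 1 ∧ k * l = 1 := by
    rintro l ⟨g, hg, hl⟩ hl0
    have hg0 : g ≠ 0 := fun h0 => hl0 (DFunLike.ext _ _ fun x => by rw [hl, h0]; simp)
    obtain ⟨f, hf, h1, h2⟩ := Φ.Sv_inv hb ha (Ne.symm hab) hg hg0
    refine ⟨g₀.comp f, ⟨f, hf, fun x => rfl⟩, DFunLike.ext _ _ fun x => ?_, DFunLike.ext _ _ fun x => ?_⟩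
    · show l (g₀ (f x)) = x
      rw [hl, hfg, h2]
    · show g₀ (f (l x)) = x
      rw [hl, h1, hgf]
  have hcard : Nat.card K = Nat.card (Φ.M a) := by
    refine Nat.card_congr (Equiv.ofBijective (fun k : K => k.1 xa) ⟨?_, ?_⟩)
    · rintro ⟨k, f, hf, hk⟩ ⟨k', f', hf', hk'⟩ (h : k xa = k' xa)
      rw [hk, hk'] at h
      have hff : f = f' := Φ.Sv_inj ha hb hab hf hf' hxa0
        (by rw [← hfg (f xa), h, hfg])
      exact Subtype.ext (DFunLike.ext _ _ fun x => by rw [hk, hk', hff])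
    · intro y
      obtain ⟨f, hf, hfe⟩ := Φ.Sv_exists ha hb hab hxa0 (f₀ y)
      refine ⟨⟨g₀.comp f, f, hf, fun x => rfl⟩, ?_⟩
      show g₀ (f xa) = y
      rw [hfe, hgf]
  obtain ⟨F, iF, iFt, ι, e, hιK, hKι, hLeq, he⟩ := H78.JField.exists_field (p := p)
    (fun m => Φ.nsmul_M m) K L ⟨f₀, hf₀, fun x => (hgf x).symm⟩
    ⟨g₀, hg₀, fun x => (hgf x).symm⟩ hKL hLK hcard
  have hKc : ∀ f ∈ Φ.Sv a hb, ∃ c, ∀ x, g₀ (f x) = ι c x := fun f hf => by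
    obtain ⟨c, hc⟩ := hKι (g₀.comp f) ⟨f, hf, fun x => rfl⟩
    exact ⟨c, fun x => by rw [hc]; rfl⟩
  have hLc : ∀ g ∈ Φ.Sv b ha, ∃ c, ∀ x, g (f₀ x) = ι c x := fun g hg => by
    obtain ⟨c, hc⟩ := hKι (g.comp f₀) (hLeq ▸ (⟨g, hg, fun x => rfl⟩ : (g.comp f₀ : AddMonoid.End _) ∈ L))
    exact ⟨c, fun x => by rw [hc]; rfl⟩
  have hmulι : ∀ (c d : F) (x : Φ.M a), ι (c * d) x = ι c (ι d x) := fun c d x => by
    rw [map_mul]; rfl
  -- ratios of two shear homomorphisms are scalars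
  have hratio : ∀ u (hu : u ∈ Φ.H), u ≠ a → ∀ fu ∈ Φ.Sv a hu, ∀ hinv : Φ.M u →+ Φ.M a,
      hinv ∈ Φ.Sv u ha → (∀ x, hinv (fu x) = x) → (∀ y, fu (hinv y) = y) →
      ∀ f ∈ Φ.Sv a hu, ∃ c, ∀ x, hinv (f x) = ι c x := by
    intro u hu hua fu hfu hinv hh h1 h2 f hf
    rcases eq_or_ne u b with rfl | hub
    · obtain ⟨c₁, hc₁⟩ := hLc hinv hh
      obtain ⟨c₂, hc₂⟩ := hKc f hf
      refine ⟨c₁ * c₂, fun x => ?_⟩
      rw [hmulι, ← hc₂, ← hc₁, hfg]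
    · obtain ⟨χ, hχ, hχ0, hmul⟩ := Φ.exists_Sv_mul ha hb hu hab hua.symm hub.symm
      obtain ⟨f₁, hf₁, hf₁e⟩ := Φ.exists_factor ha hb hu hab hua.symm hub.symm hχ hχ0 hmul hfu
      obtain ⟨f₂, hf₂, hf₂e⟩ := Φ.exists_factor ha hb hu hab hua.symm hub.symm hχ hχ0 hmul hf
      have hf₁0 : f₁ ≠ 0 := fun h0 => hxa0 (by
        rw [← h1 xa, ← hf₁e, h0, AddMonoidHom.zero_apply, map_zero, map_zero])
      obtain ⟨g₁, hg₁, -, hg₁f⟩ := Φ.Sv_inv ha hb hab hf₁ hf₁0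
      obtain ⟨c₁, hc₁⟩ := hLc g₁ hg₁
      obtain ⟨c₂, hc₂⟩ := hKc f₂ hf₂
      refine ⟨c₁ * c₂, fun x => ?_⟩
      rw [hmulι, ← hc₂, ← hc₁, hfg, ← h1 (g₁ (f₂ x)), ← hf₁e, hg₁f, hf₂e]
  -- the scalars on each component
  have hex : ∀ u (hu : u ∈ Φ.H), ∃ ψ : F →+* AddMonoid.End (Φ.M u),
      (u ≠ a → ∀ f ∈ Φ.Sv a hu, ∀ c x, f (ι c x) = ψ c (f x)) ∧
      (∀ h : u = a, ∀ c (x : Φ.M u), (ψ c x : Φ.V) = ι c ⟨x, h ▸ x.2⟩) := by
    intro u hu
    rcases eq_or_ne u a with rfl | hua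
    · exact ⟨ι, fun h => absurd rfl h, fun _ c x => rfl⟩
    obtain ⟨z, hz, hzn⟩ := Φ.exists_ne_zero hu
    obtain ⟨fu, hfu, hfue⟩ := Φ.Sv_exists ha hu hua.symm hxa0 ⟨z, hz⟩
    have hfu0 : fu ≠ 0 := fun h0 => hzn (by
      rw [h0, AddMonoidHom.zero_apply] at hfue
      exact (congrArg Subtype.val hfue).symm)
    obtain ⟨hinv, hh, h1, h2⟩ := Φ.Sv_inv ha hu hua.symm hfu hfu0
    refine ⟨
      { toFun := fun c => (fu.comp (ι c : Φ.M a →+ Φ.M a)).comp hinv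
        map_one' := DFunLike.ext _ _ fun y => by
          show fu (ι 1 (hinv y)) = y
          rw [map_one]; exact h2 y
        map_mul' := fun c d => DFunLike.ext _ _ fun y => by
          show fu (ι (c * d) (hinv y)) = fu (ι c (hinv (fu (ι d (hinv y)))))
          rw [h1, hmulι]
        map_zero' := DFunLike.ext _ _ fun y => by
          show fu (ι 0 (hinv y)) = 0
          rw [map_zero]; exact map_zero fu
        map_add' := fun c d => DFunLike.ext _ _ fun y => by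
          show fu (ι (c + d) (hinv y)) = fu (ι c (hinv y)) + fu (ι d (hinv y))
          rw [map_add ι, ← map_add fu]; rfl }, fun _ f hf c x => ?_, fun h => absurd h hua⟩
    obtain ⟨d, hd⟩ := hratio u hu hua fu hfu hinv hh h1 h2 f hf
    show f (ι c x) = fu (ι c (hinv (f x)))
    rw [hd, ← hmulι, mul_comm, hmulι, ← hd, h2]
  choose ψ hψ hψa using hex
  have hψa' : ∀ c x, ψ a ha c x = ι c x := fun c x => Subtype.ext (hψa a ha rfl c x)
  have hP : ∀ u (hu : u ∈ Φ.H) v (hv : v ∈ Φ.H), u ≠ v → ∀ f ∈ Φ.Sv u hv, ∀ c x,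
      f (ψ u hu c x) = ψ v hv c (f x) := by
    intro u hu v hv huv f hf c x
    rcases eq_or_ne u a with rfl | hua
    · rw [hψa']; exact hψ v hv huv.symm f hf c x
    rcases eq_or_ne v a with rfl | hva
    · rw [hψa']
      by_cases hf0 : f = 0
      · rw [hf0]; simp
      obtain ⟨g, hg, h1, h2⟩ := Φ.Sv_inv hu hv huv hf hf0
      have := hψ u hu hua g hg c (f x)
      rw [h1] at this
      rw [← this, h2]
    · obtain ⟨χ, hχ, hχ0, hmul⟩ := Φ.exists_Sv_mul hu ha hv hua huv hva.symm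
      obtain ⟨f', hf', he'⟩ := Φ.exists_factor hu ha hv hua huv hva.symm hχ hχ0 hmul hf
      rw [← he', ← he']
      by_cases hf0 : f' = 0
      · rw [hf0]; simp
      obtain ⟨g, hg, h1, h2⟩ := Φ.Sv_inv hu ha hua hf' hf0
      have := hψ u hu hua g hg c (f' x)
      rw [h1] at this
      rw [← this, h2]
      exact hψ v hv hva χ hχ c (f' x)
  choose cp hcpH _ hcpM using Φ.exists_M
  let sm : F → Φ.V → Φ.V := fun c v =>
    if h : v = 0 then 0 else (ψ (cp v h) (hcpH v h) c ⟨v, hcpM v h⟩ : Φ.V)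
  have hsm : ∀ c u (hu : u ∈ Φ.H) (x : Φ.M u), sm c (x : Φ.V) = (ψ u hu c x : Φ.V) := by
    intro c u hu x
    by_cases h : (x : Φ.V) = 0
    · have : x = 0 := Subtype.ext h
      subst this
      simp [sm]
    · have huc : cp _ h = u := by
        by_contra hne
        exact h (Φ.M_disj hne (hcpM _ h) x.2)
      have hcongr : ∀ (u' : X) (hu' : u' ∈ Φ.H) (x' : Φ.M u'), (x' : Φ.V) = x → u' = u →
          (ψ u' hu' c x' : Φ.V) = ψ u hu c x := by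
        rintro u' hu' x' hx' rfl
        rw [Subtype.ext hx']
      simp only [sm, dif_neg h]
      exact hcongr _ _ _ rfl huc
  have hsm0 : ∀ c, sm c 0 = 0 := fun c => by simp [sm]
  have hcases : ∀ v : Φ.V, v = 0 ∨ ∃ u, ∃ hu : u ∈ Φ.H, ∃ x : Φ.M u, (x : Φ.V) = v ∧ x ≠ 0 :=
    fun v => by
      by_cases h : v = 0
      · exact Or.inl h
      · exact Or.inr ⟨cp v h, hcpH v h, ⟨v, hcpM v h⟩, rfl, fun h0 => h (congrArg Subtype.val h0)⟩
  have hadd : ∀ c v w, sm c (v + w) = sm c v + sm c w := by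
    intro c v w
    rcases hcases v with rfl | ⟨u, hu, x, rfl, hx⟩
    · rw [zero_add, hsm0, zero_add]
    rcases hcases w with rfl | ⟨u', hu', y, rfl, hy⟩
    · rw [add_zero, hsm0, add_zero]
    rcases eq_or_ne u u' with rfl | hne
    · rw [← AddSubgroup.coe_add, hsm c u hu, hsm c u hu, hsm c u hu, map_add, AddSubgroup.coe_add]
    obtain ⟨f, hf, hfe⟩ := Φ.Sv_exists hu hu' hne hx y
    obtain ⟨w₁, hw₁, hw₁n, hgr⟩ := Φ.Sv_graph hu' hne hf
    have hw₁u : w₁ ≠ u := by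
      rintro rfl
      refine hy (Subtype.ext (Φ.M_disj hne ?_ y.2))
      have := sub_mem (hgr x) x.2
      rwa [add_sub_cancel_left, hfe] at this
    have hw₁H := Φ.line_H hu hu' hne hw₁
    obtain ⟨g, hg, hge⟩ := Φ.Sv_id_add hu hu' hne hf hw₁ hw₁u hw₁H hgr
    rw [show (x : Φ.V) + y = g x by rw [hge, hfe], hsm c w₁ hw₁H, ← hP u hu w₁ hw₁H hw₁u.symm g hg,
      hge, hP u hu u' hu' hne f hf, hfe, hsm c u hu, hsm c u' hu']
  let mdl : Module F Φ.V :=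
    { smul := sm
      one_smul := fun v => by
        show sm 1 v = v
        rcases hcases v with rfl | ⟨u, hu, x, rfl, -⟩
        · exact hsm0 1
        · rw [hsm 1 u hu, map_one]; rfl
      mul_smul := fun c d v => by
        show sm (c * d) v = sm c (sm d v)
        rcases hcases v with rfl | ⟨u, hu, x, rfl, -⟩
        · simp [hsm0]
        · rw [hsm _ u hu, hsm d u hu, hsm c u hu, map_mul]; rfl
      smul_zero := hsm0
      smul_add := hadd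
      add_smul := fun c d v => by
        show sm (c + d) v = sm c v + sm d v
        rcases hcases v with rfl | ⟨u, hu, x, rfl, -⟩
        · simp [hsm0]
        · rw [hsm _ u hu, hsm d u hu, hsm c u hu, map_add]; rfl
      zero_smul := fun v => by
        show sm 0 v = 0
        rcases hcases v with rfl | ⟨u, hu, x, rfl, -⟩
        · exact hsm0 0
        · rw [hsm 0 u hu, map_zero]; rfl }
  refine ⟨F, iF, iFt, mdl, fun u hu c x hx => ?_, fun u hu x hx hx0 y hy => ?_⟩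
  · show sm c x ∈ Φ.M u
    rw [show sm c x = (ψ u hu c ⟨x, hx⟩ : Φ.V) from hsm c u hu ⟨x, hx⟩]
    exact (ψ u hu c ⟨x, hx⟩).2
  have key : ∀ s t : Φ.M a, s ≠ 0 → ∃ c, ι c s = t := fun s t hs => by
    refine ⟨e.symm t * (e.symm s)⁻¹, ?_⟩
    have h0 : e.symm s ≠ 0 := fun h => hs (by rw [← e.apply_symm_apply s, h, map_zero])
    calc ι (e.symm t * (e.symm s)⁻¹) s
        = ι (e.symm t * (e.symm s)⁻¹) (e (e.symm s)) := by rw [e.apply_symm_apply]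
      _ = t := by rw [← he, inv_mul_cancel_right₀ h0, e.apply_symm_apply]
  suffices h : ∃ c, ψ u hu c ⟨x, hx⟩ = ⟨y, hy⟩ by
    obtain ⟨c, hc⟩ := h
    exact ⟨c, (hsm c u hu ⟨x, hx⟩).trans (congrArg Subtype.val hc)⟩
  have hx0' : (⟨x, hx⟩ : Φ.M u) ≠ 0 := fun h0 => hx0 (congrArg Subtype.val h0)
  rcases eq_or_ne u a with rfl | hua
  · obtain ⟨c, hc⟩ := key ⟨x, hx⟩ ⟨y, hy⟩ hx0'
    exact ⟨c, by rw [hψa', hc]⟩
  obtain ⟨g, hg, hge⟩ := Φ.Sv_exists hu ha hua hx0' xa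
  have hg0 : g ≠ 0 := fun h0 => hxa0 (by rw [← hge, h0]; rfl)
  obtain ⟨f, hf, h1, -⟩ := Φ.Sv_inv hu ha hua hg hg0
  obtain ⟨c, hc⟩ := key xa (g ⟨y, hy⟩) hxa0
  refine ⟨c, ?_⟩
  rw [← h1 ⟨x, hx⟩, ← hψ u hu hua f hf, hge, hc, h1]

end H13.ONan.Conf.Frame
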