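import Cfsg.Agent.H13.ONan.Setup

/-!
O'Nan's configuration: `B y x` fixes the whole `A x`-orbit of `y`, and the commutator pairing
`B y x → B x y` given by an element of `A x` moving `y` is bijective.
-/

set_option autoImplicit false
set_option linter.style.haveILetI false
set_option linter.unusedSectionVars false

namespace H13.ONan.Conf

open MulAction

variable {G X : Type*} [Group G] [MulAction G X] {p : ℕ} (C : Conf G X p)

theorem comm_smul {x : X} {a b : G} (ha : a ∈ C.A x) (hb : b ∈ C.A x) (y : X) :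
    a • b • y = b • a • y := by
  rw [← mul_smul, ← mul_smul, C.comm x a ha b hb]

/-- The commutator of `c` (fixing `x`) and `a ∈ A x` lies in `A x`. -/
theorem tau_mem {x : X} {c a : G} (hc : c • x = x) (ha : a ∈ C.A x) :
    c * a * c⁻¹ * a⁻¹ ∈ C.A x :=
  mul_mem (C.conj_mem_of_fix hc ha) (inv_mem ha)

theorem smul_fix_iff {x y : X} {c a : G} (hcy : c • y = y) (hcx : c • x = x) (ha : a ∈ C.A x) :
    c • a • y = a • y ↔ c * a * c⁻¹ * a⁻¹ ∈ C.B x y := by
  have h1 : c • a • y = (c * a * c⁻¹ * a⁻¹) • a • y := by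
    rw [← mul_smul, ← mul_smul]
    simp only [mul_assoc, inv_mul_cancel, mul_one]
    rw [mul_smul, mul_smul, mul_smul, inv_smul_eq_iff.2 hcy.symm]
  rw [h1, C.comm_smul (C.tau_mem hcx ha) ha, smul_left_cancel_iff]
  exact ⟨fun h => ⟨C.tau_mem hcx ha, h⟩, fun h => h.2⟩

theorem tau_B_eq_one {x y : X} (hxy : x ≠ y) {b c : G} (hb : b ∈ C.B x y) (hc : c ∈ C.B y x) :
    c * b * c⁻¹ * b⁻¹ = 1 := by
  rw [← C.B_comm hxy hb hc]; group

/-- If `a ∈ A x` moves `y` to a point fixed by `B y x`, every element of `B x y` is a commutator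
of `a` with an element of `B y x`. -/
theorem tau_surj {x y : X} (hxy : x ≠ y) {a : G} (ha : a ∈ C.A x) (hay : a • y ≠ y)
    (hfix : ∀ c ∈ C.B y x, c • a • y = a • y) {b : G} (hb : b ∈ C.B x y) :
    ∃ c ∈ C.B y x, c * a * c⁻¹ * a⁻¹ = b := by
  haveI := C.fin
  let f : C.B y x → C.B x y := fun c =>
    ⟨c * a * (c : G)⁻¹ * a⁻¹, (C.smul_fix_iff (C.fix _ _ c.2.1) c.2.2 ha).1 (hfix c c.2)⟩
  have hinj : Function.Injective f := by
    intro c c' h
    have h' : (c : G) * a * (c : G)⁻¹ * a⁻¹ = c' * a * (c' : G)⁻¹ * a⁻¹ := congrArg Subtype.val h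
    set d : G := (c' : G)⁻¹ * c with hd
    have hd1 : d ∈ C.B y x := mul_mem (inv_mem c'.2) c.2
    have hda : d * a = a * d := by
      have : (c : G) * a * (c : G)⁻¹ = c' * a * (c' : G)⁻¹ := mul_right_cancel h'
      calc d * a = (c' : G)⁻¹ * ((c : G) * a * (c : G)⁻¹) * c := by rw [hd]; group
        _ = (c' : G)⁻¹ * (c' * a * (c' : G)⁻¹) * c := by rw [this]
        _ = a * d := by rw [hd]; group
    have hd2 : d ∈ C.A (a • y) := by
      have := C.conj_mem a y d hd1.1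
      rwa [← hda, mul_inv_cancel_right] at this
    have hd3 := C.eq_one_of_mem (Ne.symm hay) hd1.1 hd2
    exact Subtype.ext (inv_mul_eq_one.1 hd3).symm
  have hbij : Function.Bijective f :=
    (Nat.bijective_iff_injective_and_card f).2 ⟨hinj, C.card_B (Ne.symm hxy) hxy⟩
  obtain ⟨c, hc⟩ := hbij.2 ⟨b, hb⟩
  exact ⟨c, c.2, congrArg Subtype.val hc⟩

/-- The product of the two two-point groups of a pair. -/
def P (x y : X) : Subgroup G := C.B x y ⊔ C.B y x

theorem P_fix_left {x y : X} {g : G} (hg : g ∈ C.P x y) : g • x = x := by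
  have h : C.P x y ≤ stabilizer G x :=
    sup_le (fun b hb => C.fix _ _ hb.1) (fun b hb => hb.2)
  exact h hg

theorem P_comm (x y : X) : C.P x y = C.P y x := sup_comm _ _

theorem P_fix_right {x y : X} {g : G} (hg : g ∈ C.P x y) : g • y = y :=
  C.P_fix_left (C.P_comm x y ▸ hg)

theorem conj_mem_P {x y : X} (g : G) {h : G} (hh : h ∈ C.P x y) :
    g * h * g⁻¹ ∈ C.P (g • x) (g • y) := by
  have : C.P x y ≤ (C.P (g • x) (g • y)).comap (MulAut.conj g).toMonoidHom := by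
    refine sup_le ?_ ?_
    · exact fun b hb => Subgroup.mem_sup_left (S := C.B (g • x) (g • y)) ((C.conj_mem_B_iff g x y b).2 hb)
    · exact fun b hb => Subgroup.mem_sup_right (T := C.B (g • y) (g • x)) ((C.conj_mem_B_iff g y x b).2 hb)
  exact this hh

/-- A point of the orbit fixed by `B y x` gives the same product group. -/
theorem P_eq_of_fixed {x y : X} (hxy : x ≠ y) {a : G} (ha : a ∈ C.A x) (hay : a • y ≠ y)
    (hfix : ∀ c ∈ C.B y x, c • a • y = a • y) : C.P y (a • y) = C.P x y := by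
  have hne : y ≠ a • y := Ne.symm hay
  have hxa : x ≠ a • y := fun h => hxy (smul_left_cancel a (by rw [C.fix x a ha]; exact h))
  have hC : C.B y x = C.B y (a • y) :=
    C.B_eq_of_le (Ne.symm hxy) hne fun c hc => ⟨hc.1, hfix c hc⟩
  have hconj : ∀ c ∈ C.B y x, a * c * a⁻¹ ∈ C.B (a • y) x := fun c hc => by
    have := (C.conj_mem_B_iff a y x c).2 hc
    rwa [C.fix x a ha] at this
  have hle : ∀ c ∈ C.B y x, a * c * a⁻¹ ∈ C.P x y := fun c hc => by
    have h1 : c * a * c⁻¹ * a⁻¹ ∈ C.B x y :=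
      (C.smul_fix_iff (C.fix _ _ hc.1) hc.2 ha).1 (hfix c hc)
    have h2 : a * c * a⁻¹ = (c * a * c⁻¹ * a⁻¹)⁻¹ * c := by group
    rw [h2]
    exact mul_mem (Subgroup.mem_sup_left (inv_mem h1)) (Subgroup.mem_sup_right hc)
  have hB' : C.B (a • y) x ≤ C.P x y := fun d hd => by
    have hd' : a⁻¹ * d * a ∈ C.B y x := by
      have := (C.conj_mem_B_iff a⁻¹ (a • y) x d).2 hd
      rwa [inv_smul_smul, inv_inv, inv_smul_eq_iff.2 (C.fix x a ha).symm] at this
    have := hle _ hd'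
    simpa [mul_assoc] using this
  have hB'' : C.B (a • y) x = C.B (a • y) y :=
    C.B_eq_of_le (Ne.symm hxa) hay fun d hd => ⟨hd.1, C.P_fix_right (hB' hd)⟩
  have hB : C.B x y ≤ C.P y (a • y) := fun b hb => by
    obtain ⟨c, hc, rfl⟩ := C.tau_surj hxy ha hay hfix hb
    have h2 : c * a * c⁻¹ * a⁻¹ = c * (a * c * a⁻¹)⁻¹ := by group
    rw [h2]
    refine mul_mem (Subgroup.mem_sup_left (hC ▸ hc)) (inv_mem (Subgroup.mem_sup_right ?_))
    exact hB'' ▸ hconj c hc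
  refine le_antisymm (sup_le ?_ ?_) (sup_le hB ?_)
  · exact hC ▸ (le_sup_right : C.B y x ≤ C.P x y)
  · exact hB'' ▸ hB'
  · exact hC ▸ (le_sup_left : C.B y (a • y) ≤ C.P y (a • y))

/-- The subgroup of `A x` of elements whose commutators with `B y x` lie in `B x y`. -/
def A₀ (x y : X) : Subgroup G where
  carrier := {a | a ∈ C.A x ∧ ∀ c ∈ C.B y x, c * a * c⁻¹ * a⁻¹ ∈ C.B x y}
  one_mem' := ⟨one_mem _, fun c _ => by simp [one_mem]⟩
  mul_mem' := fun {a b} ha hb => ⟨mul_mem ha.1 hb.1, fun c hc => by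
    have h1 := C.tau_mem (c := c) hc.2 hb.1
    have h : c * (a * b) * c⁻¹ * (a * b)⁻¹
        = (c * a * c⁻¹ * a⁻¹) * (a * (c * b * c⁻¹ * b⁻¹) * a⁻¹) := by group
    rw [h, C.comm x a ha.1 _ h1, mul_inv_cancel_right]
    exact mul_mem (ha.2 c hc) (hb.2 c hc)⟩
  inv_mem' := fun {a} ha => ⟨inv_mem ha.1, fun c hc => by
    have h1 := C.tau_mem (c := c) hc.2 ha.1
    have h : c * a⁻¹ * c⁻¹ * a⁻¹⁻¹ = a⁻¹ * (c * a * c⁻¹ * a⁻¹)⁻¹ * a := by group
    rw [h, C.comm x _ (inv_mem ha.1) _ (inv_mem h1), inv_mul_cancel_right]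
    exact inv_mem (ha.2 c hc)⟩

theorem conj_mem_A₀ {x y : X} (hxy : x ≠ y) {a c : G} (ha : a ∈ C.A₀ x y) (hc : c ∈ C.B y x) :
    c * a * c⁻¹ ∈ C.A₀ x y := by
  have h : c * a * c⁻¹ = c * a * c⁻¹ * a⁻¹ * a := by group
  rw [h]
  refine mul_mem ?_ ha
  have hb := ha.2 c hc
  refine ⟨hb.1, fun d hd => ?_⟩
  rw [C.tau_B_eq_one hxy hb hd]
  exact one_mem _

theorem exists_level {x y : X} (hxy : x ≠ y) (h : ∃ a ∈ C.A x, a ∉ C.A₀ x y) [hp : Fact p.Prime] :
    ∃ a ∈ C.A x, a ∉ C.A₀ x y ∧ ∀ c ∈ C.B y x, c * a * c⁻¹ * a⁻¹ ∈ C.A₀ x y := by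
  haveI := C.fin
  let K : Subgroup (C.A x) := (C.A₀ x y).subgroupOf (C.A x)
  let cj : C.B y x → C.A x → C.A x := fun c a =>
    ⟨c * a * (c : G)⁻¹, C.conj_mem_of_fix c.2.2 a.2⟩
  have hcj : ∀ (c : C.B y x) (a a' : C.A x), a⁻¹ * a' ∈ K → (cj c a)⁻¹ * cj c a' ∈ K := by
    intro c a a' h
    rw [Subgroup.mem_subgroupOf] at h ⊢
    have e : (((cj c a)⁻¹ * cj c a' : C.A x) : G) = c * ((a⁻¹ * a' : C.A x) : G) * (c : G)⁻¹ := by
      simp only [Subgroup.coe_mul, Subgroup.coe_inv, cj]; group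
    rw [e]
    exact C.conj_mem_A₀ hxy h c.2
  letI act : MulAction (C.B y x) (C.A x ⧸ K) :=
    { smul := fun c => Quotient.map' (cj c) fun a a' h => by
        rw [QuotientGroup.leftRel_apply] at h ⊢
        exact hcj c a a' h
      one_smul := fun q => by
        induction q using QuotientGroup.induction_on with
        | _ a => exact congrArg QuotientGroup.mk (Subtype.ext (by simp [cj]))
      mul_smul := fun c d q => by
        induction q using QuotientGroup.induction_on with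
        | _ a => exact congrArg QuotientGroup.mk (Subtype.ext (by simp [cj, mul_assoc])) }
  haveI : Finite (C.A x ⧸ K) := Quotient.finite _
  have hBp : IsPGroup p (C.B y x) :=
    fun c => ⟨1, Subtype.ext (by rw [pow_one]; exact C.exp y c.1 c.2.1)⟩
  have hdvd : p ∣ Nat.card (C.A x ⧸ K) := by
    haveI : K.FiniteIndex := inferInstance
    obtain ⟨n, hn⟩ := (C.isPGroup x).index K
    rw [← Subgroup.index_eq_card, hn]
    refine dvd_pow_self p ?_
    rintro rfl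
    rw [pow_zero, Subgroup.index_eq_one] at hn
    obtain ⟨a, ha, ha0⟩ := h
    have : (⟨a, ha⟩ : C.A x) ∈ K := hn ▸ Subgroup.mem_top _
    exact ha0 this
  have h1 : ((1 : C.A x) : C.A x ⧸ K) ∈ fixedPoints (C.B y x) (C.A x ⧸ K) := fun c =>
    congrArg QuotientGroup.mk (Subtype.ext (by simp [cj]))
  obtain ⟨q, hq, hne⟩ := hBp.exists_fixed_point_of_prime_dvd_card_of_fixed_point _ hdvd h1
  induction q using QuotientGroup.induction_on with
  | _ a =>
    refine ⟨a, a.2, fun hmem => hne (QuotientGroup.eq.2 ?_), fun c hc => ?_⟩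
    · simpa [K, Subgroup.mem_subgroupOf] using hmem
    · have h2 : ((cj ⟨c, hc⟩ a : C.A x) : C.A x ⧸ K) = (a : C.A x ⧸ K) := hq ⟨c, hc⟩
      have h3 := QuotientGroup.eq.1 h2.symm
      rw [Subgroup.mem_subgroupOf] at h3
      simp only [Subgroup.coe_mul, Subgroup.coe_inv, cj] at h3
      have h4 : c * a * c⁻¹ * (a : G)⁻¹ = (a : G)⁻¹ * (c * a * c⁻¹) := by
        rw [C.comm x _ (C.conj_mem_of_fix hc.2 a.2) _ (inv_mem a.2)]
      rw [h4]
      exact h3

/-- `B y x` fixes the `A x`-orbit of `y` pointwise. -/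
theorem fix_orbit [hp : Fact p.Prime] {x y : X} (hxy : x ≠ y) {a c : G} (ha : a ∈ C.A x)
    (hc : c ∈ C.B y x) : c • a • y = a • y := by
  rw [C.smul_fix_iff (C.fix _ _ hc.1) hc.2 ha]
  by_contra hne
  obtain ⟨a₁, ha₁, hna, hlev⟩ := C.exists_level hxy ⟨a, ha, fun h => hne (h.2 c hc)⟩
  obtain ⟨c₁, hc₁, hc₁n⟩ : ∃ c ∈ C.B y x, c * a₁ * c⁻¹ * a₁⁻¹ ∉ C.B x y := by
    by_contra hh
    push Not at hh
    exact hna ⟨ha₁, hh⟩
  -- the element `d` fixes `x` and `w`, and moves `y` inside the fixed set of `P x y`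
  set d := a₁⁻¹ * c₁ * a₁ with hd
  set w := a₁⁻¹ • y with hw
  set t := c₁ * a₁ * c₁⁻¹ * a₁⁻¹ with ht
  have htA : t ∈ C.A x := C.tau_mem hc₁.2 ha₁
  have htA₀ : t ∈ C.A₀ x y := hlev c₁ hc₁
  have hty : t • y ≠ y := fun h => hc₁n ⟨htA, h⟩
  have hdeq : ∀ z : X, d • z = t • c₁ • z := by
    intro z
    rw [← mul_smul]
    congr 1
    have : d = a₁⁻¹ * (c₁ * a₁ * c₁⁻¹) * c₁ := by rw [hd]; group
    rw [this, C.comm x _ (inv_mem ha₁) _ (C.conj_mem_of_fix hc₁.2 ha₁)]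
  have hdy : d • y = t • y := by rw [hdeq, C.fix _ _ hc₁.1]
  have hdw : d ∈ C.B w x := by
    have h := (C.conj_mem_B_iff a₁⁻¹ y x c₁).2 hc₁
    rwa [inv_inv, inv_smul_eq_iff.2 (C.fix x a₁ ha₁).symm] at h
  have hwy : w ≠ y := fun h => hna ⟨ha₁, fun c' hc' => by
    have e : a₁ • y = y := by conv_lhs => rw [← h, hw, smul_inv_smul]
    exact (C.smul_fix_iff (C.fix _ _ hc'.1) hc'.2 ha₁).1 (by rw [e, C.fix _ _ hc'.1])⟩
  have hwx : w ≠ x := fun h => hxy (by
    rw [← C.fix x a₁ ha₁, ← h, hw, smul_inv_smul])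
  have hfix : ∀ c' ∈ C.B y x, c' • t • y = t • y := fun c' hc' =>
    (C.smul_fix_iff (C.fix _ _ hc'.1) hc'.2 htA).2 (htA₀.2 c' hc')
  have hP : C.P y (t • y) = C.P x y := C.P_eq_of_fixed hxy htA hty hfix
  have hD : C.B w y ≤ C.B w x := by
    intro e he
    refine ⟨he.1, ?_⟩
    have he' : e • t • y = t • y := by
      rw [← hdy, ← mul_smul, C.comm w e he.1 d hdw.1, mul_smul, he.2]
    have hPe : ∀ g ∈ C.P x y, g • e • x = e • x := fun g hg => by
      have h := C.conj_mem_P e⁻¹ (x := y) (y := t • y) (hP ▸ hg)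
      rw [inv_smul_eq_iff.2 he.2.symm, inv_smul_eq_iff.2 he'.symm, hP] at h
      have h2 := C.P_fix_left h
      rw [inv_inv, mul_smul, mul_smul, inv_smul_eq_iff] at h2
      exact h2
    by_contra hne
    have hde : d • e • x = e • x := by
      rw [← mul_smul, C.comm w d hdw.1 e he.1, mul_smul, hdw.2]
    rw [hdeq, hPe c₁ (Subgroup.mem_sup_right hc₁)] at hde
    have hB : C.B x y = C.B x (e • x) :=
      C.B_eq_of_le hxy (Ne.symm hne) fun b hb => ⟨hb.1, hPe b (Subgroup.mem_sup_left hb)⟩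
    have h3 : t ∈ C.B x (e • x) := ⟨htA, hde⟩
    rw [← hB] at h3
    exact hty h3.2
  rw [← C.B_eq_of_le hwy hwx hD] at hdw
  exact hty (hdy ▸ hdw.2)

theorem tau_mem_B [Fact p.Prime] {x y : X} (hxy : x ≠ y) {a c : G} (ha : a ∈ C.A x)
    (hc : c ∈ C.B y x) : c * a * c⁻¹ * a⁻¹ ∈ C.B x y :=
  (C.smul_fix_iff (C.fix _ _ hc.1) hc.2 ha).1 (C.fix_orbit hxy ha hc)

end H13.ONan.Conf
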