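import Cfsg.Agent.H13.ONan.Lines

/-!
O'Nan's configuration: flats, pointwise stabilisers in `A x` of sets of points, and the hyperplanes.
-/

set_option autoImplicit false
set_option linter.style.haveILetI false
set_option linter.unusedSectionVars false

namespace H13.ONan.Conf

open MulAction

variable {G X : Type*} [Group G] [MulAction G X] {p : ℕ} [Fact p.Prime] (C : Conf G X p)

/-- A set of points containing the line through any two of its points. -/
def IsFlat (F : Set X) : Prop := ∀ u ∈ F, ∀ v ∈ F, u ≠ v → C.line u v ⊆ F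

/-- The flat generated by a set of points. -/
def cl (S : Set X) : Set X := {z | ∀ F, C.IsFlat F → S ⊆ F → z ∈ F}

theorem subset_cl (S : Set X) : S ⊆ C.cl S := fun _ hz _ _ hS => hS hz

theorem isFlat_cl (S : Set X) : C.IsFlat (C.cl S) :=
  fun u hu v hv huv _ hz F hF hS => hF u (hu F hF hS) v (hv F hF hS) huv hz

theorem cl_mono {S S' : Set X} (h : S ⊆ S') : C.cl S ⊆ C.cl S' :=
  fun _ hz F hF hS' => hz F hF (h.trans hS')

theorem cl_subset {S F : Set X} (hF : C.IsFlat F) (h : S ⊆ F) : C.cl S ⊆ F :=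
  fun _ hz => hz F hF h

theorem line_subset_cl {S : Set X} {u v : X} (hu : u ∈ C.cl S) (hv : v ∈ C.cl S) (h : u ≠ v) :
    C.line u v ⊆ C.cl S := C.isFlat_cl S u hu v hv h

/-- The fixed point set of an element of some `A x` is a flat. -/
theorem fixedBy_flat {x : X} {a : G} (ha : a ∈ C.A x) : C.IsFlat {z : X | a • z = z} := by
  intro u hu v hv huv z hz
  rw [Set.mem_setOf_eq] at hu hv ⊢
  by_cases hx : x ∈ C.line u v
  · rcases eq_or_ne u x with rfl | hux
    · exact hz a ⟨ha, hv⟩
    · have h1 : C.line x u = C.line u v := C.line_unique huv (Ne.symm hux) hx (C.left_mem_line u v)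
      rw [← h1] at hz
      exact hz a ⟨ha, hu⟩
  · exact C.fix_line huv hx (C.left_mem_line u v) (C.right_mem_line u v) huv ha hu hv hz

/-- The pointwise stabiliser of `S` in `A x`. -/
def pfix (x : X) (S : Set X) : Subgroup G := C.A x ⊓ fixingSubgroup G S

theorem mem_pfix {x : X} {S : Set X} {a : G} :
    a ∈ C.pfix x S ↔ a ∈ C.A x ∧ ∀ s ∈ S, a • s = s := by
  simp [pfix, mem_fixingSubgroup_iff]

theorem pfix_le (x : X) (S : Set X) : C.pfix x S ≤ C.A x := inf_le_left

theorem pfix_insert (x z : X) (S : Set X) : C.pfix x (insert z S) = C.pfix x S ⊓ C.B x z := by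
  ext a
  simp only [Subgroup.mem_inf, mem_pfix, mem_B, Set.forall_mem_insert]
  tauto

/-- The pointwise stabiliser of `S` in `A x` moves only points outside `cl (S ∪ {x})`, and is
transitive on the lines through `x` at the points it moves. -/
theorem pfix_spec (x : X) (S : Set X) :
    (∀ z, (∀ a ∈ C.pfix x S, a • z = z) → z ∈ C.cl (insert x S)) ∧
      ∀ z, (∃ a ∈ C.pfix x S, a • z ≠ z) →
        ∀ r ∈ C.line x z, r ≠ x → ∃ a ∈ C.pfix x S, a • z = r := by
  haveI := C.finX
  haveI := C.fin
  haveI : Fintype X := Fintype.ofFinite X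
  induction S, Set.toFinite S using Set.Finite.induction_on with
  | empty =>
    have hA : C.pfix x ∅ = C.A x := le_antisymm (C.pfix_le x _) fun a ha => C.mem_pfix.2 ⟨ha, by simp⟩
    rw [hA]
    refine ⟨fun z hz => ?_, fun z hz r hr hrx => ?_⟩
    · rcases eq_or_ne z x with rfl | hzx
      · exact C.subset_cl _ (Set.mem_insert _ _)
      · obtain ⟨a, ha, hne⟩ := C.exists_moves (Ne.symm hzx)
        exact absurd (hz a ha) hne
    · obtain ⟨a, ha, hne⟩ := hz
      exact C.exists_A_smul (fun h => hne (h ▸ C.fix x a ha)) hr hrx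
  | @insert z' S _ _ ih =>
    obtain ⟨ih1, ih2⟩ := ih
    have hins : C.pfix x (insert z' S) = C.pfix x S ⊓ C.B x z' := C.pfix_insert x z' S
    set J := C.pfix x S with hJ
    set J₁ := C.pfix x (insert z' S) with hJ₁
    have hmono : C.cl (insert x S) ⊆ C.cl (insert x (insert z' S)) :=
      C.cl_mono (Set.insert_subset_insert (Set.subset_insert _ _))
    by_cases hz' : ∀ a ∈ J, a • z' = z'
    · have hJJ : J₁ = J := by
        rw [hins]
        exact inf_eq_left.2 fun a ha => ⟨C.pfix_le x S ha, hz' a ha⟩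
      rw [hJJ]
      exact ⟨fun z hz => hmono (ih1 z hz), ih2⟩
    push Not at hz'
    have hz'c : z' ∈ C.cl (insert x (insert z' S)) := C.subset_cl _ (by simp)
    have hxc : x ∈ C.cl (insert x (insert z' S)) := C.subset_cl _ (by simp)
    have hxz' : x ≠ z' := by
      obtain ⟨a, ha, hne⟩ := hz'
      exact fun h => hne (h ▸ C.fix x a (C.pfix_le x S ha))
    -- either `z` lies in the closure and is fixed, or `J₁` has a long orbit on `z`
    have key : ∀ z, (z ∈ C.cl (insert x (insert z' S)) ∧ ∀ a ∈ J₁, a • z = z) ∨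
        ∀ r ∈ C.line x z, r ≠ x → ∃ a ∈ J₁, a • z = r := by
      intro z
      by_cases hzJ : ∀ a ∈ J, a • z = z
      · exact Or.inl ⟨hmono (ih1 z hzJ), fun a ha => hzJ a (hins ▸ ha : a ∈ J ⊓ C.B x z').1⟩
      by_cases hzl : z ∈ C.line x z'
      · exact Or.inl ⟨C.line_subset_cl hxc hz'c hxz' hzl,
          fun a ha => hzl a (hins ▸ ha : a ∈ J ⊓ C.B x z').2⟩
      have hzx : z ≠ x := fun h => hzl (h ▸ C.left_mem_line x z')
      have hz'z : z' ≠ z := fun h => hzl (h ▸ C.right_mem_line x z')
      have hx : x ∉ C.line z' z := fun h => hzl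
        (C.line_unique hz'z hxz' h (C.left_mem_line z' z) ▸ C.right_mem_line z' z)
      by_cases hr : ∃ r ∈ C.line z' z, ∀ a ∈ J, a • r = r
      · obtain ⟨r, hr, hrJ⟩ := hr
        have hrz : r ≠ z' := fun h => by
          obtain ⟨a, ha, hne⟩ := hz'
          exact hne (h ▸ hrJ a ha)
        refine Or.inl ⟨?_, fun a ha => ?_⟩
        · refine C.line_subset_cl (hmono (ih1 r hrJ)) hz'c hrz ?_
          rw [C.line_unique hz'z hrz hr (C.left_mem_line z' z)]
          exact C.right_mem_line z' z
        · obtain ⟨haJ, haz'⟩ := Subgroup.mem_inf.1 (hins ▸ ha : a ∈ J ⊓ C.B x z')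
          exact C.fix_line hz'z hx hr (C.left_mem_line z' z) hrz haz'.1 (hrJ a haJ) haz'.2
            (C.right_mem_line z' z)
      push Not at hr
      refine Or.inr fun r₀ hr₀ hr₀x => ?_
      classical
      set I := J₁ ⊓ C.B x z with hI
      have hJr : ∀ r ∈ C.line z' z, (J ⊓ C.B x r) ⊓ (C.B x z' ⊓ C.B x z) ≤ I :=
        fun r _ a ha => by
          obtain ⟨⟨h1, -⟩, h2, h3⟩ := ha
          exact Subgroup.mem_inf.2 ⟨hins ▸ Subgroup.mem_inf.2 ⟨h1, h2⟩, h3⟩
      have hIr : ∀ r ∈ C.line z' z, I ≤ J ⊓ C.B x r := fun r hr' a ha => by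
        obtain ⟨h1, h3⟩ := Subgroup.mem_inf.1 ha
        obtain ⟨h1, h2⟩ := Subgroup.mem_inf.1 (hins ▸ h1 : a ∈ J ⊓ C.B x z')
        exact Subgroup.mem_inf.2 ⟨h1, h2.1,
          C.fix_line hz'z hx (C.left_mem_line z' z) (C.right_mem_line z' z) hz'z h2.1 h2.2 h3.2 hr'⟩
      have hidx : ∀ r ∈ C.line z' z, Nat.card J = C.q x z' * Nat.card (J ⊓ C.B x r : Subgroup G) := by
        intro r hr'
        have hxr : x ≠ r := C.ne_of_not_mem hx hr'
        obtain ⟨a₀, ha₀, hne⟩ := hr r hr'
        have he : Nat.card (stabilizer J r) = Nat.card (J ⊓ C.B x r : Subgroup G) :=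
          Nat.card_congr
            { toFun := fun a => ⟨a.1, a.1.2, C.pfix_le x S a.1.2, a.2⟩
              invFun := fun b => ⟨⟨b.1, b.2.1⟩, b.2.2.2⟩
              left_inv := fun _ => rfl
              right_inv := fun _ => rfl }
        have h := Nat.card_congr (orbitProdStabilizerEquivGroup J r)
        have ho : orbit J r = C.line x r \ {x} := by
          apply Set.Subset.antisymm
          · rintro - ⟨a, rfl⟩
            exact C.orbit_subset hxr (C.right_mem_line x r) (Ne.symm hxr)
              ⟨⟨a, C.pfix_le x S a.2⟩, rfl⟩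
          · rintro v ⟨hv, hvx⟩
            obtain ⟨a, ha, rfl⟩ := ih2 r ⟨a₀, ha₀, hne⟩ v hv hvx
            exact ⟨⟨a, ha⟩, rfl⟩
        have h2 := C.card_line_eq hxr
        rw [C.line_diff_card, C.q_eq hxr hxz'] at h2
        rw [Nat.card_prod, Nat.card_coe_set_eq, he, ho, Nat.add_right_cancel h2] at h
        exact h.symm
      have hN : ∀ r ∈ C.line z' z, Nat.card (J ⊓ C.B x r : Subgroup G) = Nat.card J₁ := fun r hr' => by
        have h2 := hidx z' (C.left_mem_line z' z)
        rw [hidx r hr', ← hins] at h2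
        exact Nat.eq_of_mul_eq_mul_left (by have := C.two_le_q hxz'; omega) h2
      have hd : ∀ r ∈ C.line z' z, ∀ r' ∈ C.line z' z, r ≠ r' →
          (J ⊓ C.B x r) ⊓ (J ⊓ C.B x r') = I := fun r hr1 r' hr2 hne => by
        refine le_antisymm (fun a ha => ?_) (le_inf (hIr r hr1) (hIr r' hr2))
        obtain ⟨⟨h1, h2⟩, -, h3⟩ := ha
        exact hJr r hr1 ⟨⟨h1, h2⟩, C.inf_B_eq hz'z hx hr1 hr2 hne ▸ Subgroup.mem_inf.2 ⟨h2, h3⟩⟩
      have hcov : C.fs J ⊆ C.fs I ∪ (C.line z' z).toFinset.biUnion
          (fun r => C.fs (J ⊓ C.B x r) \ C.fs I) := by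
        intro a ha
        rw [mem_fs] at ha
        rw [Finset.mem_union, mem_fs, Finset.mem_biUnion]
        by_cases haI : a ∈ I
        · exact Or.inl haI
        · obtain ⟨r, hr', har⟩ := C.exists_fix_mem_line hz'z hx (C.pfix_le x S ha)
          refine Or.inr ⟨r, Set.mem_toFinset.2 hr', ?_⟩
          rw [Finset.mem_sdiff, mem_fs, mem_fs]
          exact ⟨Subgroup.mem_inf.2 ⟨ha, C.pfix_le x S ha, har⟩, haI⟩
      have h1 := (Finset.card_le_card hcov).trans (Finset.card_union_le _ _)
      rw [card_fs, card_fs, C.card_union_le (N := Nat.card J₁)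
        (fun r hr' => hIr r (Set.mem_toFinset.1 hr'))
        (fun r hr' => hN r (Set.mem_toFinset.1 hr'))
        (fun r hr1 r' hr2 => hd r (Set.mem_toFinset.1 hr1) r' (Set.mem_toFinset.1 hr2)),
        ← Set.ncard_eq_toFinset_card', C.card_line_eq hz'z, C.q_eq hz'z hxz',
        hidx z' (C.left_mem_line z' z), ← hins] at h1
      obtain ⟨d, hd'⟩ := Nat.exists_eq_add_of_le
        (Nat.card_le_card_of_injective _ (Subgroup.inclusion_injective (show I ≤ J₁ from inf_le_left)))
      rw [hd', Nat.add_sub_cancel_left] at h1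
      have h2 : C.q x z' * Nat.card I ≤ Nat.card I + d := by nlinarith
      have he : Nat.card (stabilizer J₁ z) = Nat.card I :=
        Nat.card_congr
          { toFun := fun a => ⟨a.1, a.1.2, C.pfix_le x _ a.1.2, a.2⟩
            invFun := fun b => ⟨⟨b.1, b.2.1⟩, b.2.2.2⟩
            left_inv := fun _ => rfl
            right_inv := fun _ => rfl }
      have h3 := Nat.card_congr (orbitProdStabilizerEquivGroup J₁ z)
      rw [Nat.card_prod, Nat.card_coe_set_eq, he, hd'] at h3
      have ho : orbit J₁ z = C.line x z \ {x} := by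
        refine Set.eq_of_subset_of_ncard_le ?_ ?_ (Set.toFinite _)
        · rintro - ⟨b, rfl⟩
          exact C.orbit_subset (Ne.symm hzx) (C.right_mem_line x z) hzx
            ⟨⟨b, C.pfix_le x _ b.2⟩, rfl⟩
        · have h4 := C.card_line_eq (Ne.symm hzx)
          rw [C.line_diff_card, C.q_eq (Ne.symm hzx) hxz'] at h4
          refine Nat.le_of_mul_le_mul_right ?_ (Nat.card_pos (α := I))
          rw [h3, Nat.add_right_cancel h4]
          exact h2
      have : r₀ ∈ orbit J₁ z := by rw [ho]; exact ⟨hr₀, hr₀x⟩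
      obtain ⟨a, rfl⟩ := this
      exact ⟨a, a.2, rfl⟩
    constructor
    · intro z hz
      rcases key z with h | h
      · exact h.1
      · rcases eq_or_ne z x with rfl | hzx
        · exact hxc
        obtain ⟨a₀, ha₀, hne⟩ := C.exists_moves (Ne.symm hzx)
        have h5 : a₀ • z ≠ x := fun hh => hzx
          (smul_left_cancel a₀ (hh.trans (C.fix x a₀ ha₀).symm))
        obtain ⟨a, ha, hae⟩ := h _ (C.A_line ha₀ (C.right_mem_line x z)) h5
        exact absurd (hae ▸ hz a ha) hne
    · intro z hz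
      rcases key z with h | h
      · obtain ⟨a, ha, hne⟩ := hz
        exact absurd (h.2 a ha) hne
      · exact h

/-- An element of `A x` fixing `S` and carrying `z` to `r`, for `z` outside the flat of `S` and `x`. -/
theorem exists_elation {x z r : X} {S : Set X} (hz : z ∉ C.cl (insert x S)) (hr : r ∈ C.line x z)
    (hrx : r ≠ x) : ∃ a ∈ C.pfix x S, a • z = r := by
  refine (C.pfix_spec x S).2 z ?_ r hr hrx
  by_contra h
  push Not at h
  exact hz ((C.pfix_spec x S).1 z h)

/-- A hyperplane: a proper flat meeting every line. -/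
structure IsHyp (H : Set X) : Prop where
  flat : C.IsFlat H
  meets : ∀ u v, u ≠ v → ∃ h ∈ H, h ∈ C.line u v
  proper : ∃ o, o ∉ H

/-- The fixed point set of a non-identity element of some `A x` is a hyperplane. -/
theorem isHyp_fixedBy {x : X} {a : G} (ha : a ∈ C.A x) (ha1 : a ≠ 1) :
    C.IsHyp {z : X | a • z = z} := by
  refine ⟨C.fixedBy_flat ha, fun u v huv => ?_, ?_⟩
  · by_cases hx : x ∈ C.line u v
    · exact ⟨x, C.fix x a ha, hx⟩
    · obtain ⟨z, hz, hz'⟩ := C.exists_fix_mem_line huv hx ha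
      exact ⟨z, hz', hz⟩
  · by_contra h
    push Not at h
    exact ha1 (C.faithful a h)

variable {C} in
theorem IsHyp.unique {H : Set X} (hH : C.IsHyp H) {u v h h' : X} (huv : u ≠ v) (hu : u ∉ H)
    (hh : h ∈ H) (hh' : h' ∈ H) (hl : h ∈ C.line u v) (hl' : h' ∈ C.line u v) : h = h' := by
  by_contra hne
  have := hH.flat h hh h' hh' hne
  rw [C.line_unique huv hne hl hl'] at this
  exact hu (this (C.left_mem_line u v))

variable {C} in
/-- A hyperplane with any point outside generates the whole space. -/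
theorem IsHyp.cl_eq_univ {H : Set X} (hH : C.IsHyp H) {o : X} (ho : o ∉ H) :
    C.cl (insert o H) = Set.univ := by
  refine Set.eq_univ_of_forall fun r => ?_
  rcases eq_or_ne r o with rfl | hro
  · exact C.subset_cl _ (Set.mem_insert _ _)
  obtain ⟨h, hh, hl⟩ := hH.meets o r (Ne.symm hro)
  have hho : h ≠ o := fun h' => ho (h' ▸ hh)
  have h1 : C.line o h = C.line o r := C.line_eq_of_mem (Ne.symm hro) hl hho
  exact C.line_subset_cl (C.subset_cl _ (Set.mem_insert _ _))
    (C.subset_cl _ (Set.mem_insert_of_mem _ hh)) (Ne.symm hho) (h1 ▸ C.right_mem_line o r)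

end H13.ONan.Conf
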