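import Cfsg.Agent.H13.ONan.Fixing

/-!
O'Nan's configuration: the linear space whose lines are the fixed point sets of the two-point
groups, and the counting argument showing that every element of `A x` fixes a point of every line
not through `x`.
-/

set_option autoImplicit false
set_option linter.style.haveILetI false
set_option linter.unusedSectionVars false

namespace H13.ONan.Conf

open MulAction

variable {G X : Type*} [Group G] [MulAction G X] {p : ℕ} [Fact p.Prime] (C : Conf G X p)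

/-- A `B x y`-fixed point is fixed by `B y x`. -/
theorem fix_symm {x y w : X} (hxy : x ≠ y) (hw : ∀ b ∈ C.B x y, b • w = w) :
    ∀ c ∈ C.B y x, c • w = w := by
  rcases eq_or_ne w x with rfl | hwx
  · exact fun c hc => hc.2
  rcases eq_or_ne w y with rfl | hwy
  · exact fun c hc => C.fix _ c hc.1
  by_cases h : ∃ a ∈ C.B y w, a • x ≠ x
  · obtain ⟨a, ha, hax⟩ := h
    intro c hc
    obtain ⟨b, hb, rfl⟩ :=
      C.tau_surj (Ne.symm hxy) ha.1 hax (fun b hb => C.fix_orbit (Ne.symm hxy) ha.1 hb) hc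
    have h1 : b * a * b⁻¹ ∈ C.B y w := by
      have := (C.conj_mem_B_iff b y w a).2 ha
      rwa [hb.2, hw b hb] at this
    exact (mul_mem h1 (inv_mem ha)).2
  · push Not at h
    intro c hc
    rw [← C.B_eq_of_le (Ne.symm hwy) (Ne.symm hxy) (fun a ha => ⟨ha.1, h a ha⟩)] at hc
    exact hc.2

/-- The line through two points: the fixed point set of the two-point group. -/
def line (x y : X) : Set X := {w | ∀ b ∈ C.B x y, b • w = w}

theorem left_mem_line (x y : X) : x ∈ C.line x y := fun b hb => C.fix x b hb.1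

theorem right_mem_line (x y : X) : y ∈ C.line x y := fun _ hb => hb.2

theorem line_symm {x y : X} (h : x ≠ y) : C.line x y = C.line y x :=
  Set.ext fun _ => ⟨fun hw => C.fix_symm h hw, fun hw => C.fix_symm (Ne.symm h) hw⟩

theorem B_eq_of_mem {x y u : X} (hxy : x ≠ y) (hu : u ∈ C.line x y) (hux : u ≠ x) :
    C.B x u = C.B x y :=
  (C.B_eq_of_le hxy (Ne.symm hux) fun b hb => ⟨hb.1, hu b hb⟩).symm

theorem line_eq_of_mem {x y u : X} (hxy : x ≠ y) (hu : u ∈ C.line x y) (hux : u ≠ x) :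
    C.line x u = C.line x y := by
  rw [line, line, C.B_eq_of_mem hxy hu hux]

theorem line_unique {x y u v : X} (hxy : x ≠ y) (huv : u ≠ v) (hu : u ∈ C.line x y)
    (hv : v ∈ C.line x y) : C.line u v = C.line x y := by
  rcases eq_or_ne u x with rfl | hux
  · exact C.line_eq_of_mem hxy hv (Ne.symm huv)
  · have h1 : C.line u x = C.line x y := by
      rw [C.line_symm hux, C.line_eq_of_mem hxy hu hux]
    rw [← h1] at hv ⊢
    exact C.line_eq_of_mem hux hv (Ne.symm huv)

theorem smul_mem_line_iff (g : G) (x y w : X) :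
    g • w ∈ C.line (g • x) (g • y) ↔ w ∈ C.line x y := by
  constructor
  · intro h b hb
    have := h _ ((C.conj_mem_B_iff g x y b).2 hb)
    rw [mul_smul, mul_smul, inv_smul_smul] at this
    exact smul_left_cancel g this
  · intro h b hb
    have h1 : g⁻¹ * b * g ∈ C.B x y := by
      have := (C.conj_mem_B_iff g⁻¹ (g • x) (g • y) b).2 hb
      rwa [inv_smul_smul, inv_smul_smul, inv_inv] at this
    have := h _ h1
    rwa [mul_smul, mul_smul, inv_smul_eq_iff] at this

/-- `A x` fixes every line through `x`. -/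
theorem A_line {x y w : X} {a : G} (ha : a ∈ C.A x) (hw : w ∈ C.line x y) :
    a • w ∈ C.line x y := fun b hb => by
  rw [C.comm_smul hb.1 ha, hw b hb]

theorem exists_not_mem_line {x y : X} (hxy : x ≠ y) : ∃ w, w ∉ C.line x y := by
  by_contra h
  push Not at h
  obtain ⟨a, ha, ha1, hay⟩ := C.nsr x y hxy
  exact ha1 (C.faithful a fun z => h z a ⟨ha, hay⟩)

theorem ne_of_not_mem {x y w z : X} (hx : x ∉ C.line y w) (hz : z ∈ C.line y w) : x ≠ z :=
  fun h => hx (h ▸ hz)

/-- An element of `A x` fixing two points of a line not through `x` fixes it pointwise. -/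
theorem fix_line {x y w z z' : X} (hyw : y ≠ w) (hx : x ∉ C.line y w) (hz : z ∈ C.line y w)
    (hz' : z' ∈ C.line y w) (hzz : z ≠ z') {a : G} (ha : a ∈ C.A x) (h : a • z = z)
    (h' : a • z' = z') {u : X} (hu : u ∈ C.line y w) : a • u = u := by
  have hm : C.line z z' = C.line y w := C.line_unique hyw hzz hz hz'
  have hau : a • u ∈ C.line y w := by
    rw [← hm] at hu ⊢
    have := (C.smul_mem_line_iff a z z' u).2 hu
    rwa [h, h'] at this
  have hxu : x ≠ u := C.ne_of_not_mem hx hu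
  by_contra hne
  have h1 : a • u ∈ C.line x u := C.A_line ha (C.right_mem_line x u)
  have h2 : C.line (a • u) u = C.line x u := C.line_unique hxu hne h1 (C.right_mem_line x u)
  have h3 : C.line (a • u) u = C.line y w := C.line_unique hyw hne hau hu
  exact hx (h3 ▸ h2 ▸ C.left_mem_line x u)

theorem B_ne {x y w z z' : X} (hyw : y ≠ w) (hx : x ∉ C.line y w) (hz : z ∈ C.line y w)
    (hz' : z' ∈ C.line y w) (hzz : z ≠ z') : C.B x z ≠ C.B x z' := by
  intro h
  have hz'' : z' ∈ C.line x z := fun b hb => (show b ∈ C.B x z' from h ▸ hb).2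
  have h1 : C.line z z' = C.line x z :=
    C.line_unique (C.ne_of_not_mem hx hz) hzz (C.right_mem_line x z) hz''
  rw [C.line_unique hyw hzz hz hz'] at h1
  exact hx (h1 ▸ C.left_mem_line x z)

theorem inf_B_eq {x y w z z' : X} (hyw : y ≠ w) (hx : x ∉ C.line y w) (hz : z ∈ C.line y w)
    (hz' : z' ∈ C.line y w) (hzz : z ≠ z') : C.B x z ⊓ C.B x z' = C.B x y ⊓ C.B x w := by
  ext a
  simp only [Subgroup.mem_inf, mem_B]
  constructor
  · rintro ⟨⟨ha, h⟩, -, h'⟩
    exact ⟨⟨ha, C.fix_line hyw hx hz hz' hzz ha h h' (C.left_mem_line y w)⟩,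
      ha, C.fix_line hyw hx hz hz' hzz ha h h' (C.right_mem_line y w)⟩
  · rintro ⟨⟨ha, h⟩, -, h'⟩
    exact ⟨⟨ha, C.fix_line hyw hx (C.left_mem_line y w) (C.right_mem_line y w) hyw ha h h' hz⟩,
      ha, C.fix_line hyw hx (C.left_mem_line y w) (C.right_mem_line y w) hyw ha h h' hz'⟩

/-- The index of `B x y` in `A x`. -/
noncomputable def q (x y : X) : ℕ := Nat.card (C.A x) / Nat.card (C.B x y)

theorem q_eq {x y x' y' : X} (h : x ≠ y) (h' : x' ≠ y') : C.q x y = C.q x' y' := by
  rw [q, q, C.card_A x x', C.card_B h h']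

theorem card_B_pos (x y : X) : 0 < Nat.card (C.B x y) := by
  haveI := C.fin
  exact Nat.card_pos

theorem card_A_eq (x y : X) : Nat.card (C.A x) = C.q x y * Nat.card (C.B x y) :=
  (Nat.div_mul_cancel (Subgroup.card_dvd_of_le (C.B_le x y))).symm

/-- The orbit of a point under the subgroup `A x` has `q` elements. -/
theorem card_orbit (x y : X) : (orbit (C.A x) y).ncard = C.q x y := by
  have he : Nat.card (stabilizer (C.A x) y) = Nat.card (C.B x y) :=
    Nat.card_congr
      { toFun := fun a => ⟨a.1, a.1.2, a.2⟩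
        invFun := fun b => ⟨⟨b.1, b.2.1⟩, b.2.2⟩
        left_inv := fun _ => rfl
        right_inv := fun _ => rfl }
  have h := Nat.card_congr (orbitProdStabilizerEquivGroup (C.A x) y)
  rw [Nat.card_prod, Nat.card_coe_set_eq, he, C.card_A_eq x y] at h
  exact Nat.eq_of_mul_eq_mul_right (C.card_B_pos x y) h

theorem orbit_subset {x y u : X} (hxy : x ≠ y) (hu : u ∈ C.line x y) (hux : u ≠ x) :
    orbit (C.A x) u ⊆ C.line x y \ {x} := by
  rintro - ⟨a, rfl⟩
  refine ⟨C.A_line a.2 hu, fun h => hux ?_⟩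
  exact smul_left_cancel (a : G) (h.trans (C.fix x _ a.2).symm)

theorem card_line {x y x' y' : X} (h : x ≠ y) (h' : x' ≠ y') :
    (C.line x y).ncard = (C.line x' y').ncard := by
  obtain ⟨g, rfl, rfl⟩ := C.trans x y x' y' h h'
  rw [← Set.ncard_image_of_injective _ (MulAction.injective g)]
  congr 1
  ext w
  constructor
  · rintro ⟨v, hv, rfl⟩
    exact (C.smul_mem_line_iff g x y v).2 hv
  · intro hw
    refine ⟨g⁻¹ • w, ?_, smul_inv_smul g w⟩
    rw [← smul_inv_smul g w] at hw
    exact (C.smul_mem_line_iff g x y _).1 hw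

theorem line_diff_card {x y : X} :
    (C.line x y).ncard = (C.line x y \ {x}).ncard + 1 := by
  haveI := C.finX
  rw [Set.ncard_diff_singleton_add_one (C.left_mem_line x y)]

open Classical in
/-- The elements of the finite group `G` lying in a subgroup. -/
noncomputable def fs (C : Conf G X p) (S : Subgroup G) : Finset G :=
  haveI := C.fin
  (Set.toFinite (S : Set G)).toFinset

theorem mem_fs {S : Subgroup G} {a : G} : a ∈ C.fs S ↔ a ∈ S := by simp [fs]

theorem card_fs (S : Subgroup G) : (C.fs S).card = Nat.card S := by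
  haveI := C.fin
  rw [fs, ← Set.ncard_eq_toFinset_card]
  exact (Nat.card_coe_set_eq _).symm

open Classical in
/-- Counting the union of subgroups with pairwise intersection `I`. -/
theorem card_union_le {S : Finset X} {J : X → Subgroup G} {I : Subgroup G} {N : ℕ}
    (hI : ∀ z ∈ S, I ≤ J z) (hJ : ∀ z ∈ S, Nat.card (J z) = N)
    (hd : ∀ z ∈ S, ∀ z' ∈ S, z ≠ z' → J z ⊓ J z' = I) :
    (S.biUnion fun z => C.fs (J z) \ C.fs I).card = S.card * (N - Nat.card I) := by
  rw [Finset.card_biUnion, Finset.sum_const_nat]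
  · exact fun z hz => by
      rw [Finset.card_sdiff_of_subset, card_fs, card_fs, hJ z hz]
      exact fun a ha => (C.mem_fs).2 (hI z hz ((C.mem_fs).1 ha))
  · intro z hz z' hz' hne
    rw [Function.onFun, Finset.disjoint_left]
    intro a ha ha'
    rw [Finset.mem_sdiff, mem_fs, mem_fs] at ha ha'
    exact ha.2 (hd z hz z' hz' hne ▸ Subgroup.mem_inf.2 ⟨ha.1, ha'.1⟩)

open Classical in
include C in
theorem count_le {S : Finset X} {J : X → Subgroup G} {I T : Subgroup G} {N : ℕ}
    (hI : ∀ z ∈ S, I ≤ J z) (hJ : ∀ z ∈ S, Nat.card (J z) = N)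
    (hd : ∀ z ∈ S, ∀ z' ∈ S, z ≠ z' → J z ⊓ J z' = I) (hT : ∀ z ∈ S, J z ≤ T) (hIT : I ≤ T) :
    Nat.card I + S.card * (N - Nat.card I) ≤ Nat.card T := by
  rw [← C.card_union_le hI hJ hd, ← card_fs C I, ← card_fs C T,
    ← Finset.card_union_of_disjoint]
  · refine Finset.card_le_card (Finset.union_subset ?_ (Finset.biUnion_subset.2 ?_))
    · exact fun a ha => (C.mem_fs).2 (hIT ((C.mem_fs).1 ha))
    · exact fun z hz a ha => (C.mem_fs).2 (hT z hz ((C.mem_fs).1 (Finset.mem_sdiff.1 ha).1))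
  · rw [Finset.disjoint_left]
    intro a ha ha'
    obtain ⟨z, -, hz⟩ := Finset.mem_biUnion.1 ha'
    exact (Finset.mem_sdiff.1 hz).2 ha

theorem two_le_relative {S T : Subgroup G} (C : Conf G X p) (h : S ≤ T) (hne : S ≠ T) :
    2 * Nat.card S ≤ Nat.card T := by
  haveI := C.fin
  obtain ⟨k, hk⟩ := Subgroup.card_dvd_of_le h
  rcases Nat.lt_or_ge k 2 with hk2 | hk2
  · interval_cases k
    · have := Nat.card_pos (α := T)
      omega
    · exact absurd (C.eq_of_le_of_card h (by omega)) hne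
  · calc 2 * Nat.card S ≤ k * Nat.card S := Nat.mul_le_mul_right _ hk2
      _ = Nat.card T := by rw [hk, mul_comm]

theorem two_le_q {x y : X} (hxy : x ≠ y) : 2 ≤ C.q x y := by
  haveI := C.finX
  obtain ⟨a, ha, hay⟩ := C.exists_moves hxy
  rw [← C.card_orbit x y]
  exact (Set.one_lt_ncard (Set.toFinite _)).2
    ⟨y, mem_orbit_self y, a • y, ⟨⟨a, ha⟩, rfl⟩, Ne.symm hay⟩

/-- Lines have `q + 1` points. -/
theorem card_line_eq {x y : X} (hxy : x ≠ y) : (C.line x y).ncard = C.q x y + 1 := by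
  haveI := C.finX
  haveI := C.fin
  rw [C.line_diff_card]
  congr 1
  have hy' : orbit (C.A x) y ⊆ C.line x y \ {x} :=
    C.orbit_subset hxy (C.right_mem_line x y) (Ne.symm hxy)
  rw [← C.card_orbit x y]
  by_contra hne
  have hne' : orbit (C.A x) y ≠ C.line x y \ {x} := fun h => hne (by rw [h])
  obtain ⟨u, hu, huo⟩ := Set.exists_of_ssubset (hy'.ssubset_of_ne hne')
  have hu' : orbit (C.A x) u ⊆ C.line x y \ {x} := C.orbit_subset hxy hu.1 hu.2
  have hdisj : Disjoint (orbit (C.A x) y) (orbit (C.A x) u) := by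
    rw [Set.disjoint_left]
    intro v hv hv'
    exact huo (orbit_eq_iff.1 ((orbit_eq_iff.2 hv').symm.trans (orbit_eq_iff.2 hv)))
  have hcard : 2 * C.q x y ≤ (C.line x y \ {x}).ncard := by
    refine le_trans ?_ (Set.ncard_le_ncard (Set.union_subset hy' hu') (Set.toFinite _))
    rw [Set.ncard_union_eq hdisj, C.card_orbit, C.card_orbit,
      C.q_eq (fun h => hu.2 h.symm) hxy]
    omega
  obtain ⟨x₁, hx₁⟩ := C.exists_not_mem_line hxy
  have hx1x : x₁ ≠ x := C.ne_of_not_mem hx₁ (C.left_mem_line x y)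
  have hx1y : x₁ ≠ y := C.ne_of_not_mem hx₁ (C.right_mem_line x y)
  haveI : Fintype X := Fintype.ofFinite X
  classical
  set I := C.B x₁ x ⊓ C.B x₁ y with hI
  have hcnt := C.count_le (S := (C.line x y).toFinset) (J := fun z => C.B x₁ z) (I := I)
    (T := C.A x₁) (N := Nat.card (C.B x₁ x))
    (fun z hz => by
      rw [Set.mem_toFinset] at hz
      rcases eq_or_ne z x with rfl | hzx
      · exact inf_le_left
      · exact (C.inf_B_eq hxy hx₁ hz (C.left_mem_line x y) hzx).ge.trans inf_le_left)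
    (fun z hz => by
      rw [Set.mem_toFinset] at hz
      exact C.card_B (C.ne_of_not_mem hx₁ hz) hx1x)
    (fun z hz z' hz' hne => by
      rw [Set.mem_toFinset] at hz hz'
      exact C.inf_B_eq hxy hx₁ hz hz' hne)
    (fun z _ => C.B_le x₁ z) (inf_le_left.trans (C.B_le x₁ x))
  rw [← Set.ncard_eq_toFinset_card', C.line_diff_card, C.card_A_eq x₁ x,
    C.q_eq hx1x hxy] at hcnt
  have h2 : 2 * Nat.card I ≤ Nat.card (C.B x₁ x) := by
    refine C.two_le_relative inf_le_left fun h => ?_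
    refine C.B_ne hxy hx₁ (C.left_mem_line x y) (C.right_mem_line x y) hxy
      (C.B_eq_of_le hx1x hx1y ?_)
    exact h.ge.trans inf_le_right
  have hpos : 0 < Nat.card I := Nat.card_pos
  obtain ⟨d, hd⟩ : ∃ d, Nat.card (C.B x₁ x) = Nat.card I + d := ⟨_, (Nat.add_sub_cancel' (by omega)).symm⟩
  rw [hd, Nat.add_sub_cancel_left] at hcnt
  have h3 : (2 * C.q x y + 1) * d ≤ ((C.line x y \ {x}).ncard + 1) * d :=
    Nat.mul_le_mul_right _ (by omega)
  have h4 : C.q x y * Nat.card I ≤ C.q x y * d := Nat.mul_le_mul_left _ (by omega)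
  nlinarith

/-- The `A x`-orbit of `y` is the line through `x` and `y` without `x`. -/
theorem orbit_eq {x y : X} (hxy : x ≠ y) : orbit (C.A x) y = C.line x y \ {x} := by
  haveI := C.finX
  refine Set.eq_of_subset_of_ncard_le (C.orbit_subset hxy (C.right_mem_line x y) (Ne.symm hxy)) ?_
    (Set.toFinite _)
  have := C.card_line_eq hxy
  rw [C.line_diff_card] at this
  rw [C.card_orbit]
  omega

theorem exists_A_smul {x y r : X} (hxy : x ≠ y) (hr : r ∈ C.line x y) (hrx : r ≠ x) :
    ∃ a ∈ C.A x, a • y = r := by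
  have h : r ∈ orbit (C.A x) y := by rw [C.orbit_eq hxy]; exact ⟨hr, hrx⟩
  obtain ⟨a, rfl⟩ := h
  exact ⟨a, a.2, rfl⟩

/-- The subgroup of `A x` of elements whose commutators with `c` lie in `I`. -/
def Kc (x : X) (c : G) (I : Subgroup G) (hI : I ≤ C.A x) (hc : c • x = x) : Subgroup G where
  carrier := {a | a ∈ C.A x ∧ c * a * c⁻¹ * a⁻¹ ∈ I}
  one_mem' := ⟨one_mem _, by simp [one_mem]⟩
  mul_mem' := fun {a b} ha hb => ⟨mul_mem ha.1 hb.1, by
    have h : c * (a * b) * c⁻¹ * (a * b)⁻¹
        = (c * a * c⁻¹ * a⁻¹) * (a * (c * b * c⁻¹ * b⁻¹) * a⁻¹) := by group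
    rw [h, C.comm x a ha.1 _ (hI hb.2), mul_inv_cancel_right]
    exact mul_mem ha.2 hb.2⟩
  inv_mem' := fun {a} ha => ⟨inv_mem ha.1, by
    have h : c * a⁻¹ * c⁻¹ * a⁻¹⁻¹ = a⁻¹ * (c * a * c⁻¹ * a⁻¹)⁻¹ * a := by group
    rw [h, C.comm x _ (inv_mem ha.1) _ (inv_mem (hI ha.2)), inv_mul_cancel_right]
    exact inv_mem ha.2⟩

/-- Half of the cover argument: `K` meets the other two-point groups in `I` and is large. -/
theorem exists_K {x y w : X} (hyw : y ≠ w) (hx : x ∉ C.line y w) :
    ∃ K : Subgroup G, C.B x y ≤ K ∧ K ≤ C.A x ∧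
      (∀ z ∈ C.line y w, z ≠ y → K ⊓ C.B x z ≤ C.B x y ⊓ C.B x w) ∧
      C.q x y * Nat.card (C.B x y ⊓ C.B x w : Subgroup G) ≤ Nat.card K := by
  haveI := C.fin
  have hxy : x ≠ y := C.ne_of_not_mem hx (C.left_mem_line y w)
  set I := C.B x y ⊓ C.B x w with hI
  obtain ⟨c, hc, hcw⟩ : ∃ c ∈ C.B y x, c • w ≠ w := by
    by_contra h
    push Not at h
    have hw : w ∈ C.line y x := h
    have := C.line_unique (Ne.symm hxy) hyw (C.left_mem_line y x) hw
    exact hx (this ▸ C.right_mem_line y x)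
  have hIA : I ≤ C.A x := inf_le_left.trans (C.B_le x y)
  let K := C.Kc x c I hIA hc.2
  have hcI : ∀ a ∈ I, c * a * c⁻¹ = a := fun a ha => by
    have h1 := C.tau_B_eq_one hxy (show a ∈ C.B x y from ha.1) hc
    exact mul_inv_eq_one.1 h1
  refine ⟨K, fun b hb => ⟨hb.1, ?_⟩, fun a ha => ha.1, fun z hz hzy a ha => ?_, ?_⟩
  · rw [C.tau_B_eq_one hxy hb hc]
    exact one_mem _
  · obtain ⟨haK, haz⟩ := Subgroup.mem_inf.1 ha
    have hcz : c • z ≠ z := fun h => by
      have h2 : C.B y z = C.B y w := C.B_eq_of_mem hyw hz hzy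
      have h3 : c ∈ C.B y z := ⟨hc.1, h⟩
      rw [h2] at h3
      exact hcw h3.2
    have hczm : c • z ∈ C.line y w := C.A_line hc.1 hz
    have h1 : c * a * c⁻¹ ∈ C.B x (c • z) := by
      have := (C.conj_mem_B_iff c x z a).2 haz
      rwa [hc.2] at this
    have h2 : c * a * c⁻¹ ∈ C.B x z := by
      have hIz : I ≤ C.B x z := (C.inf_B_eq hyw hx hz (C.left_mem_line y w) hzy).ge.trans inf_le_left
      have := mul_mem (hIz haK.2) haz
      rwa [inv_mul_cancel_right] at this
    have h3 : c * a * c⁻¹ ∈ I := by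
      have := Subgroup.mem_inf.2 ⟨h1, h2⟩
      rwa [C.inf_B_eq hyw hx hczm hz hcz] at this
    have h4 := hcI _ h3
    have h5 : c * a * c⁻¹ = a := mul_left_cancel (mul_right_cancel h4)
    rwa [h5] at h3
  · let f : C.A x →* C.B x y :=
      MonoidHom.mk' (fun a => ⟨c * a * c⁻¹ * (a : G)⁻¹, C.tau_mem_B hxy a.2 hc⟩) fun a b => by
        refine Subtype.ext ?_
        show c * (a * b) * c⁻¹ * ((a : G) * b)⁻¹ = _ * _
        have h : c * (a * b) * c⁻¹ * ((a : G) * b)⁻¹
            = (c * a * c⁻¹ * (a : G)⁻¹) * ((a : G) * (c * b * c⁻¹ * (b : G)⁻¹) * (a : G)⁻¹) := by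
          group
        rw [h, C.comm x a a.2 _ (C.tau_mem hc.2 b.2), mul_inv_cancel_right]
    have hker : (I.subgroupOf (C.B x y)).comap f = K.subgroupOf (C.A x) := by
      ext a
      rw [Subgroup.mem_comap, Subgroup.mem_subgroupOf, Subgroup.mem_subgroupOf]
      exact ⟨fun h => ⟨a.2, h⟩, fun h => h.2⟩
    have hidx : (K.subgroupOf (C.A x)).index ∣ (I.subgroupOf (C.B x y)).index ∨
        (K.subgroupOf (C.A x)).index ≤ (I.subgroupOf (C.B x y)).index := by
      right
      haveI : (I.subgroupOf (C.B x y)).Normal := ⟨fun n hn g => by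
        have h1 : g * n = n * g :=
          Subtype.ext (C.comm x g g.2.1 n n.2.1)
        rwa [h1, mul_inv_cancel_right]⟩
      rw [← hker, Subgroup.index_comap]
      exact Nat.le_of_dvd (Nat.pos_of_ne_zero Subgroup.index_ne_zero_of_finite)
        (Subgroup.relIndex_dvd_index_of_normal _ _)
    have hA := Subgroup.index_mul_card (K.subgroupOf (C.A x))
    have hB := Subgroup.index_mul_card (I.subgroupOf (C.B x y))
    rw [Nat.card_congr (Subgroup.subgroupOfEquivOfLe (show K ≤ C.A x from fun a ha => ha.1)).toEquiv]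
      at hA
    rw [Nat.card_congr (Subgroup.subgroupOfEquivOfLe (show I ≤ C.B x y from inf_le_left)).toEquiv]
      at hB
    have hle : (K.subgroupOf (C.A x)).index ≤ (I.subgroupOf (C.B x y)).index := by
      rcases hidx with h | h
      · exact Nat.le_of_dvd (Nat.pos_of_ne_zero Subgroup.index_ne_zero_of_finite) h
      · exact h
    rw [C.card_A_eq x y, ← hB] at hA
    have hpos : 0 < (I.subgroupOf (C.B x y)).index :=
      Nat.pos_of_ne_zero Subgroup.index_ne_zero_of_finite
    refine Nat.le_of_mul_le_mul_left ?_ hpos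
    calc (I.subgroupOf (C.B x y)).index * (C.q x y * Nat.card I)
        = (K.subgroupOf (C.A x)).index * Nat.card K := by rw [hA]; ring
      _ ≤ (I.subgroupOf (C.B x y)).index * Nat.card K := Nat.mul_le_mul_right _ hle

/-- Every element of `A x` fixes a point of every line not through `x`. -/
theorem exists_fix_mem_line {x y w : X} (hyw : y ≠ w) (hx : x ∉ C.line y w) {a : G}
    (ha : a ∈ C.A x) : ∃ z ∈ C.line y w, a • z = z := by
  haveI := C.finX
  haveI := C.fin
  haveI : Fintype X := Fintype.ofFinite X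
  classical
  by_contra hno
  push Not at hno
  have hxy : x ≠ y := C.ne_of_not_mem hx (C.left_mem_line y w)
  have hxw : x ≠ w := C.ne_of_not_mem hx (C.right_mem_line y w)
  set I := C.B x y ⊓ C.B x w with hI
  set S := (C.line y w).toFinset with hS
  set U : Finset G := S.biUnion fun z => C.fs (C.B x z) with hU
  -- the uncovered elements lie in `K`
  have main : ∀ u v : X, u ≠ v → C.line u v = C.line y w → C.B x u ⊓ C.B x v = I →
      ∃ K : Subgroup G, C.B x u ≤ K ∧
        (∀ z ∈ C.line y w, z ≠ u → K ⊓ C.B x z ≤ I) ∧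
        ∀ b ∈ C.A x, (∀ z ∈ C.line y w, b • z ≠ z) → b ∈ K := by
    intro u v huv hline hIuv
    have hx' : x ∉ C.line u v := hline ▸ hx
    obtain ⟨K, hBK, hKA, hKd, hKc⟩ := C.exists_K huv hx'
    rw [hIuv] at hKd hKc
    rw [hline] at hKd
    refine ⟨K, hBK, hKd, fun b hb hb' => ?_⟩
    by_contra hbK
    -- count the complement of `K`
    set S' := S.erase u with hS'
    set N := Nat.card (C.B x y) with hN
    have hsub : (S'.biUnion fun z => C.fs (C.B x z) \ C.fs I) ⊆
        (C.fs (C.A x) \ C.fs K).erase b := by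
      intro d hd
      obtain ⟨z, hz, hd⟩ := Finset.mem_biUnion.1 hd
      obtain ⟨hd1, hd2⟩ := Finset.mem_sdiff.1 hd
      rw [mem_fs] at hd1 hd2
      rw [hS', Finset.mem_erase, hS, Set.mem_toFinset] at hz
      rw [Finset.mem_erase, Finset.mem_sdiff, mem_fs, mem_fs]
      refine ⟨fun h => hb' z hz.2 (h ▸ hd1.2), hd1.1, fun h => hd2 ?_⟩
      exact hKd z hz.2 hz.1 (Subgroup.mem_inf.2 ⟨h, hd1⟩)
    have h1 := Finset.card_le_card hsub
    rw [C.card_union_le (N := N)
      (fun z hz => by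
        rw [hS', Finset.mem_erase, hS, Set.mem_toFinset] at hz
        rcases eq_or_ne z y with rfl | hzy
        · exact inf_le_left
        · exact (C.inf_B_eq hyw hx hz.2 (C.left_mem_line y w) hzy).ge.trans inf_le_left)
      (fun z hz => by
        rw [hS', Finset.mem_erase, hS, Set.mem_toFinset] at hz
        exact C.card_B (C.ne_of_not_mem hx hz.2) hxy)
      (fun z hz z' hz' hne => by
        rw [hS', Finset.mem_erase, hS, Set.mem_toFinset] at hz hz'
        exact C.inf_B_eq hyw hx hz.2 hz'.2 hne),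
      Finset.card_erase_of_mem (s := C.fs (C.A x) \ C.fs K) (a := b)
        (by rw [Finset.mem_sdiff, mem_fs, mem_fs]; exact ⟨hb, hbK⟩),
      Finset.card_sdiff_of_subset (fun d hd => (C.mem_fs).2 (hKA ((C.mem_fs).1 hd))),
      card_fs, card_fs, hS', Finset.card_erase_of_mem (by
        rw [hS, Set.mem_toFinset, ← hline]; exact C.left_mem_line u v),
      hS, ← Set.ncard_eq_toFinset_card', C.card_line_eq hyw, C.q_eq hyw hxy,
      Nat.add_sub_cancel, C.card_A_eq x y, ← hN] at h1
    have hxu : x ≠ u := C.ne_of_not_mem hx' (C.left_mem_line u v)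
    rw [C.q_eq hxu hxy] at hKc
    have hIN : Nat.card I ≤ N :=
      Nat.card_le_card_of_injective _ (Subgroup.inclusion_injective (show I ≤ C.B x y from inf_le_left))
    obtain ⟨d, hd⟩ := Nat.exists_eq_add_of_le hIN
    rw [hd, Nat.add_sub_cancel_left, Nat.mul_add] at h1
    have hKA' : Nat.card K ≤ C.q x y * N := C.card_A_eq x y ▸
      Nat.card_le_card_of_injective _ (Subgroup.inclusion_injective hKA)
    have : 0 < C.q x y * N - Nat.card K := by
      have hss : Nat.card K ≠ Nat.card (C.A x) := fun h => hbK (C.eq_of_le_of_card hKA h ▸ hb)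
      rw [C.card_A_eq x y] at hss
      rw [← hN] at hss
      omega
    rw [hd, Nat.mul_add] at this
    omega
  obtain ⟨K, hBK, hKd, hK⟩ := main y w hyw rfl rfl
  obtain ⟨K', -, hKd', hK'⟩ := main w y (Ne.symm hyw) (C.line_symm (Ne.symm hyw)) (inf_comm _ _)
  obtain ⟨b, hb, hbI⟩ : ∃ b ∈ C.B x y, b ∉ I := by
    by_contra h
    push Not at h
    exact C.B_ne hyw hx (C.left_mem_line y w) (C.right_mem_line y w) hyw
      (C.B_eq_of_le hxy hxw fun b hb => (h b hb).2)
  have haK : a ∈ K := hK a ha hno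
  have hab : ∀ z ∈ C.line y w, (a * b) • z ≠ z := by
    intro z hz h
    have hm : a * b ∈ C.B x z := ⟨mul_mem ha hb.1, h⟩
    rcases eq_or_ne z y with rfl | hzy
    · refine hno z hz ?_
      have h' := (mul_mem hm (inv_mem hb)).2
      rwa [mul_inv_cancel_right] at h'
    · refine hno y (C.left_mem_line y w) ?_
      have h1 : a * b ∈ I := hKd z hz hzy (Subgroup.mem_inf.2 ⟨mul_mem haK (hBK hb), hm⟩)
      have h' := (mul_mem (show a * b ∈ C.B x y from h1.1) (inv_mem hb)).2
      rwa [mul_inv_cancel_right] at h'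
  have hbK' : b ∈ K' := by
    have := mul_mem (inv_mem (hK' a ha hno)) (hK' (a * b) (mul_mem ha hb.1) hab)
    rwa [inv_mul_cancel_left] at this
  exact hbI (hKd' y (C.left_mem_line y w) hyw (Subgroup.mem_inf.2 ⟨hbK', hb⟩))

/-- Two two-point groups of `A x` generate `A x` strongly: one moves freely along the other line. -/
theorem exists_B_smul {x y w r : X} (hyw : y ≠ w) (hx : x ∉ C.line y w)
    (hr : r ∈ C.line x w) (hrx : r ≠ x) : ∃ b ∈ C.B x y, b • w = r := by
  haveI := C.finX
  haveI := C.fin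
  haveI : Fintype X := Fintype.ofFinite X
  classical
  have hxy : x ≠ y := C.ne_of_not_mem hx (C.left_mem_line y w)
  have hxw : x ≠ w := C.ne_of_not_mem hx (C.right_mem_line y w)
  suffices h : orbit (C.B x y) w = C.line x w \ {x} by
    have : r ∈ orbit (C.B x y) w := by rw [h]; exact ⟨hr, hrx⟩
    obtain ⟨b, rfl⟩ := this
    exact ⟨b, b.2, rfl⟩
  set I := C.B x y ⊓ C.B x w with hI
  -- the cover gives `|A| ≤ |I| + (q + 1)(g - |I|)`
  have hcov : C.fs (C.A x) ⊆ C.fs I ∪ (C.line y w).toFinset.biUnion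
      (fun z => C.fs (C.B x z) \ C.fs I) := by
    intro d hd
    rw [mem_fs] at hd
    rw [Finset.mem_union, mem_fs, Finset.mem_biUnion]
    by_cases hdI : d ∈ I
    · exact Or.inl hdI
    · obtain ⟨z, hz, hdz⟩ := C.exists_fix_mem_line hyw hx hd
      refine Or.inr ⟨z, Set.mem_toFinset.2 hz, ?_⟩
      rw [Finset.mem_sdiff, mem_fs, mem_fs]
      exact ⟨⟨hd, hdz⟩, hdI⟩
  have h1 := (Finset.card_le_card hcov).trans (Finset.card_union_le _ _)
  rw [card_fs, card_fs, C.card_union_le (N := Nat.card (C.B x y))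
    (fun z hz => by
      rw [Set.mem_toFinset] at hz
      rcases eq_or_ne z y with rfl | hzy
      · exact inf_le_left
      · exact (C.inf_B_eq hyw hx hz (C.left_mem_line y w) hzy).ge.trans inf_le_left)
    (fun z hz => by
      rw [Set.mem_toFinset] at hz
      exact C.card_B (C.ne_of_not_mem hx hz) hxy)
    (fun z hz z' hz' hne => by
      rw [Set.mem_toFinset] at hz hz'
      exact C.inf_B_eq hyw hx hz hz' hne),
    ← Set.ncard_eq_toFinset_card', C.card_line_eq hyw, C.q_eq hyw hxy, C.card_A_eq x y] at h1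
  obtain ⟨d, hd⟩ := Nat.exists_eq_add_of_le
    (Nat.card_le_card_of_injective _ (Subgroup.inclusion_injective (show I ≤ C.B x y from inf_le_left)))
  rw [hd, Nat.add_sub_cancel_left] at h1
  have h2 : C.q x y * Nat.card I ≤ Nat.card I + d := by nlinarith
  -- orbit–stabiliser in `B x y`
  have he : Nat.card (stabilizer (C.B x y) w) = Nat.card I :=
    Nat.card_congr
      { toFun := fun a => ⟨a.1, a.1.2, a.1.2.1, a.2⟩
        invFun := fun b => ⟨⟨b.1, b.2.1⟩, b.2.2.2⟩
        left_inv := fun _ => rfl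
        right_inv := fun _ => rfl }
  have h3 := Nat.card_congr (orbitProdStabilizerEquivGroup (C.B x y) w)
  rw [Nat.card_prod, Nat.card_coe_set_eq, he, hd] at h3
  refine Set.eq_of_subset_of_ncard_le ?_ ?_ (Set.toFinite _)
  · rintro - ⟨b, rfl⟩
    exact C.orbit_subset hxw (C.right_mem_line x w) (Ne.symm hxw) ⟨⟨b, b.2.1⟩, rfl⟩
  · have h4 := C.card_line_eq hxw
    rw [C.line_diff_card, C.q_eq hxw hxy] at h4
    refine Nat.le_of_mul_le_mul_right ?_ (Nat.card_pos (α := I))
    rw [h3, Nat.add_right_cancel h4]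
    exact h2

/-- Veblen's axiom. -/
theorem veblen {x y w u r : X} (hxy : x ≠ y) (hw : w ∉ C.line x y)
    (hu : u ∈ C.line x y) (hux : u ≠ x) (hr : r ∈ C.line x w) (hrx : r ≠ x) :
    ∃ z, z ∈ C.line y w ∧ z ∈ C.line u r := by
  have hyw : y ≠ w := fun h => hw (h ▸ C.right_mem_line x y)
  have hx : x ∉ C.line y w := fun h => hw (by
    rw [C.line_unique hyw hxy h (C.left_mem_line y w)]
    exact C.right_mem_line y w)
  obtain ⟨a, ha, hay⟩ := C.exists_A_smul hxy hu hux
  have hxw : x ≠ w := C.ne_of_not_mem hx (C.right_mem_line y w)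
  have haw : a • w ∈ C.line x w := C.A_line ha (C.right_mem_line x w)
  have hawx : a • w ≠ x := fun h => hxw
    (smul_left_cancel a ((C.fix x a ha).trans h.symm))
  obtain ⟨a', ha', ha'r⟩ := C.exists_A_smul hxw hr hrx
  have h1 : a⁻¹ • r ∈ C.line x w := C.A_line (inv_mem ha) hr
  have h2 : a⁻¹ • r ≠ x := fun h => hrx
    (by rw [inv_smul_eq_iff] at h; rw [h, C.fix x a ha])
  obtain ⟨b, hb, hbw⟩ := C.exists_B_smul hyw hx h1 h2
  have hg : a * b ∈ C.A x := mul_mem ha hb.1
  obtain ⟨z, hz, hgz⟩ := C.exists_fix_mem_line hyw hx hg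
  refine ⟨z, hz, ?_⟩
  have h3 := (C.smul_mem_line_iff (a * b) y w z).2 hz
  rwa [hgz, mul_smul, mul_smul, hb.2, hay, hbw, smul_inv_smul] at h3

end H13.ONan.Conf
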