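import Cfsg.Agent.H13.ONan.Transvection
import Cfsg.Agent.H64.ONan.Model

/-!
O'Nan's theorem: the groups `A x` generate a normal subgroup `PSL_n(F)` with trivial centraliser.
-/

set_option autoImplicit false
set_option linter.style.haveILetI false
set_option linter.unusedSectionVars false

namespace H13.ONan.Conf

open MulAction
open scoped LinearAlgebra.Projectivization

variable {G X : Type*} [Group G] [MulAction G X] {p : ℕ} (C : Conf G X p)

theorem exists_fin_model [Fact p.Prime] (C : Conf G X p) (hX : ∃ x y : X, x ≠ y) :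
    ∃ (F : Type) (_ : Field F) (_ : Fintype F) (n : ℕ), 3 ≤ n ∧
      Nonempty (Model C F (Fin n → F)) := by
  obtain ⟨a, b, hab⟩ := hX
  obtain ⟨c, hc, hc1, hcb⟩ := C.nsr a b hab
  have hH := C.isHyp_fixedBy hc hc1
  obtain ⟨o, ho⟩ := hH.proper
  let Φ : Frame C := ⟨_, o, hH, ho⟩
  obtain ⟨F, iF, iFt, iM, hM, hM1⟩ := Φ.exists_module (a := a) (b := b) (C.fix a c hc) hcb hab
  obtain ⟨m⟩ := Φ.exists_model hM hM1
  haveI := Φ.finite_V
  haveI : Module.Finite F (F × Φ.V) := Module.Finite.of_finite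
  let n := Module.finrank F (F × Φ.V)
  let l : (F × Φ.V) ≃ₗ[F] (Fin n → F) := (Module.finBasis F (F × Φ.V)).equivFun
  let m' := m.map l
  refine ⟨F, iF, iFt, n, ?_, ⟨m'⟩⟩
  obtain ⟨u, hu⟩ := m.ex a
  obtain ⟨v, hv⟩ := m.ex b
  obtain ⟨w, hw⟩ := m.exists_independent hab hu hv
  have hind : LinearIndependent F ![u, v, w] := by
    rw [Fintype.linearIndependent_iff]
    intro g hg
    simp only [Fin.sum_univ_three, Matrix.cons_val_zero, Matrix.cons_val_one,
      Matrix.cons_val_two, Matrix.tail_cons, Matrix.head_cons] at hg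
    have h2 : g 2 = 0 := by
      by_contra h
      refine hw (-((g 2)⁻¹ * g 0)) (-((g 2)⁻¹ * g 1)) ?_
      have : (g 2)⁻¹ • (g 0 • u + g 1 • v + g 2 • w) = 0 := by rw [hg, smul_zero]
      rw [smul_add, smul_add, smul_smul, smul_smul, inv_smul_smul₀ h] at this
      rw [← sub_eq_zero, ← neg_eq_zero, ← this, neg_smul, neg_smul]
      abel
    rw [h2, zero_smul, add_zero] at hg
    have h1 : g 1 = 0 := by
      by_contra h
      rcases eq_or_ne (g 0) 0 with h0 | h0
      · rw [h0, zero_smul, zero_add] at hg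
        exact smul_ne_zero h (m.ne hv) hg
      · have h3 : g 0 • u = (-(g 1)) • v := by rw [neg_smul]; exact eq_neg_of_add_eq_zero_left hg
        exact hab (m.uniq (m.smul hu h0) (h3 ▸ m.smul hv (neg_ne_zero.2 h)))
    rw [h1, zero_smul, add_zero] at hg
    have h0 : g 0 = 0 := (smul_eq_zero.1 hg).resolve_right (m.ne hu)
    intro i
    fin_cases i
    · exact h0
    · exact h1
    · exact h2
  have := hind.fintype_card_le_finrank
  rwa [Fintype.card_fin] at this

theorem exists_equiv [Fact p.Prime] {F : Type*} [Field F] {n : ℕ}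
    (m : Model C F (Fin n → F)) :
    ∃ e : X ≃ ℙ F (Fin n → F), ∀ z w (hw : w ≠ 0),
      m.R z w ↔ e z = Projectivization.mk F w hw := by
  choose r hr using m.ex
  let f : X → ℙ F (Fin n → F) := fun z => Projectivization.mk F (r z) (m.ne (hr z))
  have hf : ∀ z w (hw : w ≠ 0), m.R z w ↔ f z = Projectivization.mk F w hw := by
    intro z w hw
    rw [Projectivization.mk_eq_mk_iff']
    constructor
    · intro h; exact m.prop h (hr z)
    · rintro ⟨c, hc⟩
      have hc0 : c ≠ 0 := fun h => m.ne (hr z) (by rw [← hc, h, zero_smul])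
      have := m.smul (hr z) (inv_ne_zero hc0)
      rwa [← hc, inv_smul_smul₀ hc0] at this
  refine ⟨Equiv.ofBijective f ⟨fun z z' h => ?_, fun q => ?_⟩, hf⟩
  · exact m.uniq ((hf z _ (m.ne (hr z'))).2 h) (hr z')
  · induction q using Projectivization.ind with
    | h w hw =>
      obtain ⟨z, hz⟩ := m.surj hw
      exact ⟨z, (hf z w hw).1 hz⟩

/-- O'Nan's theorem. -/
theorem main (C : Conf G X p) (hp : p.Prime) (hX : ∃ x y : X, x ≠ y) :
    ∃ (L : Subgroup G) (F : Type) (_ : Field F) (_ : Fintype F) (n : ℕ), 3 ≤ n ∧ L.Normal ∧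
      Subgroup.centralizer (L : Set G) = ⊥ ∧
      Nonempty (↥L ≃* Matrix.ProjectiveSpecialLinearGroup (Fin n) F) ∧
      Nat.card X * (Fintype.card F - 1) = Fintype.card F ^ n - 1 := by
  haveI : Fact p.Prime := ⟨hp⟩
  haveI : FaithfulSMul G X := ⟨fun {g g'} h => by
    have h1 := C.faithful (g⁻¹ * g') fun z => by rw [mul_smul, ← h z, inv_smul_smul]
    exact inv_mul_eq_one.1 h1⟩
  obtain ⟨F, iF, iFt, n, hn, ⟨m⟩⟩ := C.exists_fin_model hX
  obtain ⟨e, he⟩ := C.exists_equiv m
  let S : Set G := {a | ∃ x, a ∈ C.A x}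
  have hact : ∀ {a : G} {v : Fin n → F} {φ : Module.Dual F (Fin n → F)},
      (∀ z w, m.R z w → m.R (a • z) (w + φ w • v)) → H64.ONan.ActsAsTransvection e a v φ :=
    fun h u hu y hy hu' => (he _ _ hu').1 (h y u ((he y u hu).2 hy))
  obtain ⟨a, b, hab⟩ := hX
  obtain ⟨hiso, hcard⟩ := H64.ONan.psl_of_model e S
    (fun s ⟨x, hs⟩ => by
      obtain ⟨v, φ, hv, h⟩ := m.exists_transvection hs
      exact ⟨v, φ, hv, hact h⟩)
    (fun v φ hv => by
      by_cases h0 : v = 0 ∨ φ = 0
      · refine ⟨1, ⟨a, one_mem _⟩, hact fun z w hw => ?_⟩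
        rcases h0 with rfl | rfl <;> simpa using hw
      · push Not at h0
        obtain ⟨x, g, hg, h⟩ := m.exists_elem h0.1 h0.2 hv
        exact ⟨g, ⟨x, hg⟩, hact h⟩)
  refine ⟨Subgroup.closure S, F, iF, iFt, n, hn, ?_, ?_, hiso, hcard (by omega)⟩
  · constructor
    intro s hs g
    have hle : Subgroup.closure S ≤ (Subgroup.closure S).comap (MulAut.conj g).toMonoidHom := by
      refine (Subgroup.closure_le _).2 ?_
      rintro t ⟨x, ht⟩
      exact Subgroup.subset_closure ⟨g • x, C.conj_mem g x t ht⟩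
    exact hle hs
  · rw [eq_bot_iff]
    intro g hg
    rw [Subgroup.mem_centralizer_iff] at hg
    refine Subgroup.mem_bot.2 (C.faithful g fun x => ?_)
    by_contra hne
    obtain ⟨y, hy⟩ : ∃ y, x ≠ y := ⟨g • x, Ne.symm hne⟩
    obtain ⟨c, hc, hc1, -⟩ := C.nsr x y hy
    have h1 := C.conj_mem g x c hc
    rw [← hg c (Subgroup.subset_closure ⟨x, hc⟩), mul_inv_cancel_right] at h1
    exact hc1 (C.eq_one_of_mem (Ne.symm hne) hc h1)

end H13.ONan.Conf
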