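import Mathlib

/-!
O'Nan's configuration: a doubly transitive group with an equivariant family `A x` of elementary
abelian `p`-subgroups fixing `x` and not semiregular on the other points.  This file contains the
basic facts, in particular that the family is a trivial intersection family.
-/

set_option autoImplicit false

namespace H13.ONan

open MulAction

/-- The configuration. -/
structure Conf (G : Type*) (X : Type*) [Group G] [MulAction G X] (p : ℕ) where
  /-- the subgroup attached to a point -/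
  A : X → Subgroup G
  conj_mem : ∀ g x a, a ∈ A x → g * a * g⁻¹ ∈ A (g • x)
  fix : ∀ x, ∀ a ∈ A x, a • x = x
  comm : ∀ x, ∀ a ∈ A x, ∀ b ∈ A x, a * b = b * a
  exp : ∀ x, ∀ a ∈ A x, a ^ p = 1
  nsr : ∀ x y, x ≠ y → ∃ a ∈ A x, a ≠ 1 ∧ a • y = y
  faithful : ∀ g : G, (∀ x : X, g • x = x) → g = 1
  trans : ∀ x y x' y' : X, x ≠ y → x' ≠ y' → ∃ g : G, g • x = x' ∧ g • y = y'
  fin : Finite G
  finX : Finite X

namespace Conf

variable {G X : Type*} [Group G] [MulAction G X] {p : ℕ} (C : Conf G X p)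

theorem conj_mem_iff (g : G) (x : X) (a : G) : g * a * g⁻¹ ∈ C.A (g • x) ↔ a ∈ C.A x := by
  refine ⟨fun h => ?_, C.conj_mem g x a⟩
  simpa [mul_assoc] using C.conj_mem g⁻¹ _ _ h

theorem conj_mem_of_fix {g : G} {x : X} (hg : g • x = x) {a : G} (ha : a ∈ C.A x) :
    g * a * g⁻¹ ∈ C.A x := by
  simpa [hg] using C.conj_mem g x a ha

/-- The part of `A x` fixing `y`. -/
def B (x y : X) : Subgroup G := C.A x ⊓ stabilizer G y

theorem mem_B {x y : X} {a : G} : a ∈ C.B x y ↔ a ∈ C.A x ∧ a • y = y := Iff.rfl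

theorem B_le (x y : X) : C.B x y ≤ C.A x := inf_le_left

theorem card_eq_of_map {S S' : Subgroup G} (g : G) (h : ∀ a, g * a * g⁻¹ ∈ S' ↔ a ∈ S) :
    Nat.card S = Nat.card S' :=
  Nat.card_congr
    { toFun := fun a => ⟨g * a * g⁻¹, (h a).2 a.2⟩
      invFun := fun a => ⟨g⁻¹ * a * g, (h _).1 (by simp [mul_assoc])⟩
      left_inv := fun a => Subtype.ext (by simp [mul_assoc])
      right_inv := fun a => Subtype.ext (by simp [mul_assoc]) }

theorem conj_mem_B_iff (g : G) (x y : X) (a : G) :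
    g * a * g⁻¹ ∈ C.B (g • x) (g • y) ↔ a ∈ C.B x y := by
  rw [mem_B, mem_B, C.conj_mem_iff]
  simp [mul_smul]

include C in
theorem exists_smul_eq (x x' : X) : ∃ g : G, g • x = x' := by
  by_cases h : x = x'
  · exact ⟨1, by rw [one_smul, h]⟩
  · obtain ⟨g, hg, -⟩ := C.trans x x' x' x h (Ne.symm h)
    exact ⟨g, hg⟩

theorem card_A (x x' : X) : Nat.card (C.A x) = Nat.card (C.A x') := by
  obtain ⟨g, rfl⟩ := C.exists_smul_eq x x'
  exact card_eq_of_map g (C.conj_mem_iff g x)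

theorem card_B {x y x' y' : X} (h : x ≠ y) (h' : x' ≠ y') :
    Nat.card (C.B x y) = Nat.card (C.B x' y') := by
  obtain ⟨g, rfl, rfl⟩ := C.trans x y x' y' h h'
  exact card_eq_of_map g (C.conj_mem_B_iff g x y)

theorem card_inf {x y x' y' : X} (h : x ≠ y) (h' : x' ≠ y') :
    Nat.card (C.A x ⊓ C.A y : Subgroup G) = Nat.card (C.A x' ⊓ C.A y' : Subgroup G) := by
  obtain ⟨g, rfl, rfl⟩ := C.trans x y x' y' h h'
  exact card_eq_of_map g fun a => by
    simp only [Subgroup.mem_inf, C.conj_mem_iff]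

theorem eq_of_le_of_card {S S' : Subgroup G} (C : Conf G X p) (hle : S ≤ S')
    (h : Nat.card S = Nat.card S') : S = S' := by
  haveI := C.fin
  exact Subgroup.eq_of_le_of_card_ge hle h.ge

theorem B_eq_of_le {x y x' y' : X} (h : x ≠ y) (h' : x' ≠ y') (hle : C.B x y ≤ C.B x' y') :
    C.B x y = C.B x' y' :=
  C.eq_of_le_of_card hle (C.card_B h h')

/-- The trivial intersection property. -/
theorem inf_eq_bot {x y : X} (hxy : x ≠ y) : C.A x ⊓ C.A y = ⊥ := by
  rw [eq_bot_iff]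
  intro e he
  obtain ⟨hex, hey⟩ := Subgroup.mem_inf.1 he
  rw [Subgroup.mem_bot]
  refine C.faithful e fun w => ?_
  rcases eq_or_ne w x with rfl | hwx
  · exact C.fix _ e hex
  rcases eq_or_ne w y with rfl | hwy
  · exact C.fix _ e hey
  by_contra hne
  have key : ∀ z, z ≠ w → e ∈ C.A z → C.A z ⊓ C.A w = C.A w ⊓ C.A (e • w) := by
    intro z hz hez
    refine C.eq_of_le_of_card ?_ (C.card_inf hz (Ne.symm hne))
    intro f hf
    obtain ⟨hfz, hfw⟩ := Subgroup.mem_inf.1 hf
    refine Subgroup.mem_inf.2 ⟨hfw, ?_⟩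
    have h := C.conj_mem e w f hfw
    rwa [C.comm z e hez f hfz, mul_inv_cancel_right] at h
  have h1 := key x (Ne.symm hwx) hex
  have h2 := key y (Ne.symm hwy) hey
  have h3 : C.A x ⊓ C.A w = C.A x ⊓ C.A y := by
    refine C.eq_of_le_of_card (le_inf inf_le_left ?_) (C.card_inf (Ne.symm hwx) hxy)
    rw [h1, ← h2]
    exact inf_le_left
  rw [← h3] at he
  exact hne (C.fix _ e (Subgroup.mem_inf.1 he).2)

theorem eq_one_of_mem {x y : X} (hxy : x ≠ y) {a : G} (hx : a ∈ C.A x) (hy : a ∈ C.A y) :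
    a = 1 := by
  have h : a ∈ C.A x ⊓ C.A y := Subgroup.mem_inf.2 ⟨hx, hy⟩
  rwa [C.inf_eq_bot hxy, Subgroup.mem_bot] at h

/-- The two two-point groups of a pair commute. -/
theorem B_comm {x y : X} (hxy : x ≠ y) {b c : G} (hb : b ∈ C.B x y) (hc : c ∈ C.B y x) :
    b * c = c * b := by
  have h1 : b * c * b⁻¹ * c⁻¹ ∈ C.A y :=
    mul_mem (C.conj_mem_of_fix hb.2 hc.1) (inv_mem hc.1)
  have h2 : b * (c * b⁻¹ * c⁻¹) ∈ C.A x :=
    mul_mem hb.1 (C.conj_mem_of_fix hc.2 (inv_mem hb.1))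
  have h3 : b * c * b⁻¹ * c⁻¹ = 1 := by
    refine C.eq_one_of_mem hxy ?_ h1
    simpa only [mul_assoc] using h2
  calc b * c = b * c * b⁻¹ * c⁻¹ * (c * b) := by group
    _ = c * b := by rw [h3, one_mul]

/-- Points in one `A x`-orbit have the same two-point group. -/
theorem B_smul {x y : X} {a : G} (ha : a ∈ C.A x) : C.B x (a • y) = C.B x y := by
  ext b
  simp only [mem_B, and_congr_right_iff]
  intro hb
  rw [← mul_smul, C.comm x b hb a ha, mul_smul]
  exact smul_left_cancel_iff a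

theorem exists_moves {x y : X} (hxy : x ≠ y) : ∃ a ∈ C.A x, a • y ≠ y := by
  by_contra h
  push Not at h
  obtain ⟨a, ha, ha1, -⟩ := C.nsr x y hxy
  refine ha1 (C.faithful a fun z => ?_)
  rcases eq_or_ne x z with rfl | hz
  · exact C.fix _ a ha
  have heq : C.B x z = C.A x := by
    refine C.eq_of_le_of_card (C.B_le x z) ?_
    rw [C.card_B (Ne.symm (Ne.symm hz)) hxy,
      show C.B x y = C.A x from le_antisymm (C.B_le x y) fun b hb => ⟨hb, h b hb⟩]
  rw [← heq] at ha
  exact ha.2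

theorem isPGroup (x : X) : IsPGroup p (C.A x) :=
  fun a => ⟨1, Subtype.ext (by rw [pow_one]; exact C.exp x a.1 a.2)⟩

end Conf

end H13.ONan
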