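import Cfsg.Agent.H13.ONan.Trans

/-!
O'Nan's configuration: shears fixing a hyperplane and a point outside it, seen as homomorphisms
between the components of the translation group.
-/

set_option autoImplicit false
set_option linter.style.haveILetI false
set_option linter.unusedSectionVars false

namespace H13.ONan.Conf

open MulAction

variable {G X : Type*} [Group G] [MulAction G X] {p : ℕ} [Fact p.Prime]

/-- A hyperplane with a point outside. -/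
structure Frame (C : Conf G X p) where
  H : Set X
  o : X
  hH : C.IsHyp H
  ho : o ∉ H

namespace Frame

variable {C : Conf G X p} (Φ : Frame C)

/-- The translation group, written additively. -/
def V : Type _ := Additive ↥(C.tgrp Φ.H)

/-- The underlying group element. -/
def val (v : Φ.V) : G := (Additive.toMul (α := ↥(C.tgrp Φ.H)) v).1

/-- A translation as an element of `V`. -/
def tr (t : G) (ht : t ∈ C.tgrp Φ.H) : Φ.V := Additive.ofMul (⟨t, ht⟩ : ↥(C.tgrp Φ.H))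

noncomputable instance vAddCommGroup : AddCommGroup Φ.V :=
  { (inferInstance : AddGroup (Additive ↥(C.tgrp Φ.H))) with
    add_comm := fun x y => Subtype.ext (Φ.hH.tgrp_comm (Additive.toMul (α := ↥(C.tgrp Φ.H)) x).2
      (Additive.toMul (α := ↥(C.tgrp Φ.H)) y).2) }

theorem val_mem (v : Φ.V) : Φ.val v ∈ C.tgrp Φ.H := (Additive.toMul (α := ↥(C.tgrp Φ.H)) v).2

theorem val_inj {v w : Φ.V} (h : Φ.val v = Φ.val w) : v = w := Subtype.ext h

theorem val_add (v w : Φ.V) : Φ.val (v + w) = Φ.val v * Φ.val w := rfl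

theorem val_zero : Φ.val 0 = 1 := rfl

theorem val_neg (v : Φ.V) : Φ.val (-v) = (Φ.val v)⁻¹ := rfl

theorem val_tr (t : G) (ht : t ∈ C.tgrp Φ.H) : Φ.val (Φ.tr t ht) = t := rfl

theorem val_eq_one {v : Φ.V} : Φ.val v = 1 ↔ v = 0 :=
  ⟨fun h => Φ.val_inj (h.trans Φ.val_zero.symm), fun h => h ▸ Φ.val_zero⟩

theorem finite_V : Finite Φ.V := by
  haveI := C.fin
  exact (inferInstance : Finite ↥(C.tgrp Φ.H))

/-- The component of a point of the hyperplane. -/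
def M (u : X) : AddSubgroup Φ.V where
  carrier := {v | Φ.val v ∈ C.pfix u Φ.H}
  zero_mem' := by simp only [Set.mem_setOf_eq, val_zero, one_mem]
  add_mem' := fun {v w} hv hw => by
    simp only [Set.mem_setOf_eq, val_add] at *
    exact mul_mem hv hw
  neg_mem' := fun {v} hv => by
    simp only [Set.mem_setOf_eq, val_neg] at *
    exact inv_mem hv

theorem mem_M {u : X} {v : Φ.V} : v ∈ Φ.M u ↔ Φ.val v ∈ C.pfix u Φ.H := Iff.rfl

theorem M_disj {u v : X} (h : u ≠ v) {x : Φ.V} (hx : x ∈ Φ.M u) (hy : x ∈ Φ.M v) : x = 0 := by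
  by_contra h0
  exact h (Φ.hH.comp_unique hx hy fun hv => h0 (Φ.val_eq_one.1 hv))

theorem exists_M (v : Φ.V) (h : v ≠ 0) :
    ∃ u ∈ Φ.H, u ∈ C.line Φ.o (Φ.val v • Φ.o) ∧ v ∈ Φ.M u :=
  Φ.hH.exists_mem_pfix Φ.ho (Φ.val_mem v) fun hv => h (Φ.val_eq_one.1 hv)

theorem exists_ne_zero {u : X} (hu : u ∈ Φ.H) : ∃ x ∈ Φ.M u, x ≠ 0 := by
  have hne : u ≠ Φ.o := fun h => Φ.ho (h ▸ hu)
  obtain ⟨a, ha, hao⟩ := C.exists_moves hne
  have h1 : a • Φ.o ≠ u := fun h => hne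
    (smul_left_cancel a ((C.fix u a ha).trans h.symm))
  obtain ⟨t, ht, hte⟩ := Φ.hH.exists_trans hu Φ.ho (C.A_line ha (C.right_mem_line u Φ.o)) h1
  refine ⟨Φ.tr t (C.pfix_le_tgrp hu ht), ht, fun h0 => hao ?_⟩
  rw [← hte, show t = 1 from Φ.val_eq_one.2 h0, one_smul]

theorem add_mem_line {u v : X} (hu : u ∈ Φ.H) (hv : v ∈ Φ.H) (huv : u ≠ v) {x y : Φ.V}
    (hx : x ∈ Φ.M u) (hy : y ∈ Φ.M v) : ∃ w ∈ C.line u v, x + y ∈ Φ.M w := by
  simp only [mem_M, val_add]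
  exact Φ.hH.mul_mem_line hu hv huv hx hy

theorem exists_add_eq {u v w : X} (hu : u ∈ Φ.H) (hv : v ∈ Φ.H) (huv : u ≠ v)
    (hw : w ∈ C.line u v) {z : Φ.V} (hz : z ∈ Φ.M w) : ∃ x ∈ Φ.M u, ∃ y ∈ Φ.M v, x + y = z := by
  obtain ⟨s, hs, t, ht, he⟩ := Φ.hH.exists_mul_eq hu hv huv hw hz
  exact ⟨Φ.tr s (C.pfix_le_tgrp hu hs), hs, Φ.tr t (C.pfix_le_tgrp hv ht), ht, Φ.val_inj he⟩

theorem line_H {u v : X} (hu : u ∈ Φ.H) (hv : v ∈ Φ.H) (huv : u ≠ v) {w : X}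
    (hw : w ∈ C.line u v) : w ∈ Φ.H := Φ.hH.flat u hu v hv huv hw

/-- A shear with centre `c ∈ H` preserves `H`. -/
theorem shear_H {c : X} (hc : c ∈ Φ.H) {e : G} (he : e ∈ C.A c) {u : X} (hu : u ∈ Φ.H) :
    e • u ∈ Φ.H := by
  rcases eq_or_ne c u with rfl | hne
  · rwa [C.fix c e he]
  · exact Φ.line_H hc hu hne (C.A_line he (C.right_mem_line c u))

theorem shear_conj {c : X} (hc : c ∈ Φ.H) {e : G} (he : e ∈ C.A c) {u : X} {t : G}
    (ht : t ∈ C.pfix u Φ.H) : e * t * e⁻¹ ∈ C.pfix (e • u) Φ.H := by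
  rw [mem_pfix] at ht ⊢
  refine ⟨C.conj_mem e u t ht.1, fun h hh => ?_⟩
  rw [mul_smul, mul_smul, ht.2 _ (Φ.shear_H hc (inv_mem he) hh), smul_inv_smul]

theorem shear_tgrp {c : X} (hc : c ∈ Φ.H) {e : G} (he : e ∈ C.A c) {t : G}
    (ht : t ∈ C.tgrp Φ.H) : e * t * e⁻¹ ∈ C.tgrp Φ.H := by
  have hle : C.tgrp Φ.H ≤ (C.tgrp Φ.H).comap (MulAut.conj e).toMonoidHom := by
    refine (Subgroup.closure_le _).2 ?_
    rintro s ⟨u, hu, hs⟩
    exact C.pfix_le_tgrp (Φ.shear_H hc he hu) (Φ.shear_conj hc he hs)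
  exact hle ht

/-- Conjugation by a shear, as an automorphism of `V`. -/
noncomputable def cj {c : X} (hc : c ∈ Φ.H) {e : G} (he : e ∈ C.A c) : Φ.V →+ Φ.V :=
  AddMonoidHom.mk' (fun v => Φ.tr _ (Φ.shear_tgrp hc he (Φ.val_mem v))) fun v w => Φ.val_inj (by
    simp only [val_tr, val_add]
    group)

theorem val_cj {c : X} (hc : c ∈ Φ.H) {e : G} (he : e ∈ C.A c) (v : Φ.V) :
    Φ.val (Φ.cj hc he v) = e * Φ.val v * e⁻¹ := rfl

theorem cj_mem {c : X} (hc : c ∈ Φ.H) {e : G} (he : e ∈ C.A c) {u : X} {x : Φ.V}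
    (hx : x ∈ Φ.M u) : Φ.cj hc he x ∈ Φ.M (e • u) := Φ.shear_conj hc he hx

theorem cj_fix {c : X} (hc : c ∈ Φ.H) {e : G} (he : e ∈ C.A c) {x : Φ.V} (hx : x ∈ Φ.M c) :
    Φ.cj hc he x = x := Φ.val_inj (by
  rw [val_cj, C.comm c e he _ hx.1, mul_inv_cancel_right])

/-- A shear moves every translation by a translation of its centre. -/
theorem cj_sub_mem {c : X} (hc : c ∈ Φ.H) {e : G} (he : e ∈ C.B c Φ.o) (x : Φ.V) :
    Φ.cj hc he.1 x - x ∈ Φ.M c := by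
  set t := Φ.val x with ht
  have htr : t • Φ.o ∉ Φ.H := Φ.hH.smul_not_mem (Φ.hH.tgrp_fix (Φ.val_mem x)) Φ.ho
  have hne : c ≠ t • Φ.o := fun h => htr (h ▸ hc)
  have h1 : e • t • Φ.o ≠ c := fun h => hne
    (smul_left_cancel e ((C.fix c e he.1).trans h.symm))
  obtain ⟨s, hs, hse⟩ := Φ.hH.exists_trans hc htr (C.A_line he.1 (C.right_mem_line c _)) h1
  have h2 : Φ.cj hc he.1 x = Φ.tr s (C.pfix_le_tgrp hc hs) + x := by
    refine Φ.val_inj (Φ.hH.tgrp_eq_of_smul (Φ.val_mem _) (Φ.val_mem _) Φ.ho ?_)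
    rw [val_cj, val_add, val_tr, ← ht, mul_smul, mul_smul, mul_smul,
      inv_smul_eq_iff.2 he.2.symm, hse]
  rw [h2, add_sub_cancel_right]
  exact hs

/-- A shear fixing a point of `H` centralises its component. -/
theorem cj_fix_of_fix {c u : X} (hc : c ∈ Φ.H) {e : G} (he : e ∈ C.B c Φ.o) (hu : e • u = u)
    (hne : u ≠ c) {x : Φ.V} (hx : x ∈ Φ.M u) : Φ.cj hc he.1 x = x := by
  have h1 : Φ.cj hc he.1 x ∈ Φ.M u := by
    have := Φ.cj_mem hc he.1 hx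
    rwa [hu] at this
  exact sub_eq_zero.1 (Φ.M_disj hne (sub_mem h1 hx) (Φ.cj_sub_mem hc he x))

theorem cj_mul {c : X} (hc : c ∈ Φ.H) {e e' : G} (he : e ∈ C.B c Φ.o) (he' : e' ∈ C.B c Φ.o)
    (x : Φ.V) :
    Φ.cj hc (mul_mem he he').1 x - x = (Φ.cj hc he.1 x - x) + (Φ.cj hc he'.1 x - x) := by
  have h1 : Φ.cj hc (mul_mem he he').1 x = Φ.cj hc he.1 (Φ.cj hc he'.1 x) := Φ.val_inj (by
    simp only [val_cj]; group)
  have h2 := Φ.cj_fix hc he.1 (Φ.cj_sub_mem hc he' x)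
  rw [map_sub] at h2
  rw [h1, sub_eq_iff_eq_add.1 h2]
  abel

/-- The homomorphisms `M u → M v` induced by the shears with centre `v`. -/
def Sv (u : X) {v : X} (hv : v ∈ Φ.H) : AddSubgroup (Φ.M u →+ Φ.M v) where
  carrier := {f | ∃ e, ∃ he : e ∈ C.B v Φ.o,
    ∀ x : Φ.M u, (f x : Φ.V) = Φ.cj hv he.1 x - x}
  zero_mem' := ⟨1, one_mem _, fun x => by
    have h : Φ.cj hv (one_mem (C.A v)) (x : Φ.V) = x := Φ.val_inj (by rw [val_cj]; group)
    simp [h]⟩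
  add_mem' := by
    rintro f g ⟨e, he, hf⟩ ⟨e', he', hg⟩
    refine ⟨e * e', mul_mem he he', fun x => ?_⟩
    rw [Φ.cj_mul hv he he', ← hf, ← hg]
    rfl
  neg_mem' := by
    rintro f ⟨e, he, hf⟩
    refine ⟨e⁻¹, inv_mem he, fun x => ?_⟩
    have h := Φ.cj_mul hv he (inv_mem he) (x : Φ.V)
    have h0 : Φ.cj hv (mul_mem he (inv_mem he)).1 (x : Φ.V) = x :=
      Φ.val_inj (by rw [val_cj]; group)
    rw [h0, sub_self, ← hf] at h
    exact neg_eq_of_add_eq_zero_right h.symm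

theorem Sv_graph {u v : X} (hv : v ∈ Φ.H) (huv : u ≠ v) {f : Φ.M u →+ Φ.M v}
    (hf : f ∈ Φ.Sv u hv) : ∃ w ∈ C.line u v, w ≠ v ∧ ∀ x : Φ.M u, (x : Φ.V) + f x ∈ Φ.M w := by
  obtain ⟨e, he, hf⟩ := hf
  refine ⟨e • u, ?_, fun h => huv ?_, fun x => ?_⟩
  · rw [C.line_symm huv]; exact C.A_line he.1 (C.right_mem_line v u)
  · exact smul_left_cancel e (h.trans (C.fix v e he.1).symm)
  · rw [hf, add_sub_cancel]
    exact Φ.cj_mem hv he.1 x.2

theorem exists_Sv_of_comp {u v w : X} (hu : u ∈ Φ.H) (hv : v ∈ Φ.H) (huv : u ≠ v)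
    (hw : w ∈ C.line u v) (hwv : w ≠ v) :
    ∃ f ∈ Φ.Sv u hv, ∀ x : Φ.M u, (x : Φ.V) + f x ∈ Φ.M w := by
  have hou : Φ.o ≠ u := fun h => Φ.ho (h ▸ hu)
  have hvl : v ∉ C.line Φ.o u := fun h => huv
    (Φ.hH.unique hou Φ.ho hu hv (C.right_mem_line Φ.o u) h)
  obtain ⟨e, he, hew⟩ := C.exists_B_smul hou hvl (C.line_symm huv ▸ hw : w ∈ C.line v u) hwv
  refine ⟨AddMonoidHom.mk' (fun x => ⟨_, Φ.cj_sub_mem hv he (x : Φ.V)⟩) fun x y => Subtype.ext ?_,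
    ⟨e, he, fun x => rfl⟩, fun x => ?_⟩
  · simp only [AddSubgroup.coe_add, map_add]
    abel
  · show (x : Φ.V) + (Φ.cj hv he.1 x - x) ∈ Φ.M w
    rw [add_sub_cancel, ← hew]
    exact Φ.cj_mem hv he.1 x.2

theorem Sv_eq_zero {u v : X} (hu : u ∈ Φ.H) (hv : v ∈ Φ.H) (huv : u ≠ v) {f : Φ.M u →+ Φ.M v}
    (hf : f ∈ Φ.Sv u hv) {x : Φ.M u} (hx : x ≠ 0) (hfx : f x = 0) : f = 0 := by
  obtain ⟨w, -, -, hw⟩ := Φ.Sv_graph hv huv hf
  have hwu : w = u := by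
    by_contra h
    have := hw x
    rw [hfx, AddSubgroup.coe_zero, add_zero] at this
    exact hx (Subtype.ext (Φ.M_disj h this x.2))
  subst hwu
  refine AddMonoidHom.ext fun y => Subtype.ext ?_
  exact Φ.M_disj huv (by simpa using sub_mem (hw y) y.2) (f y).2

/-- Evaluation at a non-zero element is bijective on shear homomorphisms. -/
theorem Sv_exists {u v : X} (hu : u ∈ Φ.H) (hv : v ∈ Φ.H) (huv : u ≠ v) {x : Φ.M u} (hx : x ≠ 0)
    (y : Φ.M v) : ∃ f ∈ Φ.Sv u hv, f x = y := by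
  obtain ⟨w, hwl, hw⟩ := Φ.add_mem_line hu hv huv x.2 y.2
  have hwv : w ≠ v := by
    rintro rfl
    exact hx (Subtype.ext (Φ.M_disj huv x.2 (by simpa using sub_mem hw y.2)))
  obtain ⟨f, hf, hfw⟩ := Φ.exists_Sv_of_comp hu hv huv hwl hwv
  refine ⟨f, hf, Subtype.ext (sub_eq_zero.1 ?_)⟩
  refine Φ.M_disj (Ne.symm hwv) (sub_mem (f x).2 y.2) ?_
  have := sub_mem (hfw x) hw
  rwa [add_sub_add_left_eq_sub] at this

theorem Sv_inj {u v : X} (hu : u ∈ Φ.H) (hv : v ∈ Φ.H) (huv : u ≠ v) {f g : Φ.M u →+ Φ.M v}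
    (hf : f ∈ Φ.Sv u hv) (hg : g ∈ Φ.Sv u hv) {x : Φ.M u} (hx : x ≠ 0) (h : f x = g x) : f = g :=
  sub_eq_zero.1 (Φ.Sv_eq_zero hu hv huv (sub_mem hf hg) hx (by simp [h]))

/-- A non-zero shear homomorphism has a shear homomorphism as inverse. -/
theorem Sv_inv {u v : X} (hu : u ∈ Φ.H) (hv : v ∈ Φ.H) (huv : u ≠ v) {f : Φ.M u →+ Φ.M v}
    (hf : f ∈ Φ.Sv u hv) (hf0 : f ≠ 0) :
    ∃ g ∈ Φ.Sv v hu, (∀ x, g (f x) = x) ∧ ∀ y, f (g y) = y := by
  obtain ⟨w, hwl, hwv, hw⟩ := Φ.Sv_graph hv huv hf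
  have hwu : w ≠ u := by
    rintro rfl
    exact hf0 (AddMonoidHom.ext fun y =>
      Subtype.ext (Φ.M_disj huv (by simpa using sub_mem (hw y) y.2) (f y).2))
  obtain ⟨g, hg, hgw⟩ := Φ.exists_Sv_of_comp hv hu (Ne.symm huv) (C.line_symm huv ▸ hwl) hwu
  have h1 : ∀ x, g (f x) = x := fun x => by
    refine Subtype.ext (sub_eq_zero.1 (Φ.M_disj hwu ?_ (sub_mem (g (f x)).2 x.2)))
    have := sub_mem (hgw (f x)) (hw x)
    rwa [show ((f x : Φ.V) + g (f x)) - ((x : Φ.V) + f x) = g (f x) - x by abel] at this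
  refine ⟨g, hg, h1, fun y => ?_⟩
  obtain ⟨x, hx, hx0⟩ := Φ.exists_ne_zero hu
  rcases eq_or_ne y 0 with rfl | hy
  · simp
  have hg0 : g ≠ 0 := fun h0 => hx0 (by
    have := h1 ⟨x, hx⟩
    rw [h0, AddMonoidHom.zero_apply] at this
    exact (congrArg Subtype.val this).symm)
  refine sub_eq_zero.1 (by_contra fun hne => hg0 (Φ.Sv_eq_zero hv hu (Ne.symm huv) hg hne ?_))
  rw [map_sub, h1, sub_self]

/-- For noncollinear `u, c, v` some shear with centre `c` fixes `u` and moves `v` as prescribed. -/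
theorem exists_shear {u c v r : X} (hu : u ∈ Φ.H) (hc : c ∈ Φ.H) (hcv : c ≠ v)
    (hv : v ∈ Φ.H) (hnc : u ∉ C.line c v) (hr : r ∈ C.line c v) (hrc : r ≠ c) :
    ∃ e ∈ C.B c Φ.o, e • u = u ∧ e • v = r := by
  haveI := C.fin
  haveI := C.finX
  haveI : Fintype X := Fintype.ofFinite X
  classical
  have huc : u ≠ c := fun h => hnc (h ▸ C.left_mem_line c v)
  have hco : c ≠ Φ.o := fun h => Φ.ho (h ▸ hc)
  have huv : u ≠ v := fun h => hnc (h ▸ C.right_mem_line c v)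
  suffices hmv : ∃ e ∈ C.pfix c {Φ.o, u}, e • v ≠ v by
    obtain ⟨e, he, hev⟩ := (C.pfix_spec c {Φ.o, u}).2 v hmv r hr hrc
    rw [mem_pfix] at he
    exact ⟨e, ⟨he.1, he.2 _ (Set.mem_insert _ _)⟩, he.2 _ (by simp), hev⟩
  by_contra hno
  push Not at hno
  have hcl : c ∉ C.line u v := fun h => hnc
    (C.line_unique huv hcv h (C.right_mem_line u v) ▸ C.left_mem_line u v)
  -- every element of `B c o` fixes `u`
  have hmove : ∀ r ∈ C.line u v, ∃ a ∈ C.B c Φ.o, a • r ≠ r := by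
    intro r hr'
    have hcr : c ≠ r := C.ne_of_not_mem hcl hr'
    by_contra h
    push Not at h
    have hrl : r ∈ C.line c Φ.o := h
    exact hcr (Φ.hH.unique hco.symm Φ.ho hc (Φ.line_H hu hv huv hr') (C.right_mem_line Φ.o c)
      (C.line_symm hco ▸ hrl))
  set J := C.B c Φ.o with hJ
  set I := C.B c Φ.o ⊓ C.B c u with hI
  have hIl : ∀ r ∈ C.line u v, ∀ a ∈ I, a • r = r := fun r hr' a ha => by
    obtain ⟨h1, h2⟩ := Subgroup.mem_inf.1 ha
    refine C.fix_line huv hcl (C.left_mem_line u v) (C.right_mem_line u v) huv h1.1 h2.2 ?_ hr'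
    exact hno a (C.mem_pfix.2 ⟨h1.1, by simp [(C.mem_B.1 h1).2, (C.mem_B.1 h2).2]⟩)
  -- the stabiliser in `J` of each point of the line is `I`
  have hst : ∀ r ∈ C.line u v, Nat.card J = C.q c u * Nat.card (J ⊓ C.B c r : Subgroup G) := by
    intro r hr'
    have hcr : c ≠ r := C.ne_of_not_mem hcl hr'
    have he : Nat.card (stabilizer J r) = Nat.card (J ⊓ C.B c r : Subgroup G) :=
      Nat.card_congr
        { toFun := fun a => ⟨a.1, a.1.2, a.1.2.1, a.2⟩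
          invFun := fun b => ⟨⟨b.1, b.2.1⟩, b.2.2.2⟩
          left_inv := fun _ => rfl
          right_inv := fun _ => rfl }
    have hor : Φ.o ≠ r := fun h => Φ.ho (h ▸ Φ.line_H hu hv huv hr')
    have hcl' : c ∉ C.line Φ.o r := fun h => hcr
      (Φ.hH.unique hor Φ.ho hc (Φ.line_H hu hv huv hr') h (C.right_mem_line Φ.o r))
    have ho' : orbit J r = C.line c r \ {c} := by
      apply Set.Subset.antisymm
      · rintro - ⟨a, rfl⟩
        exact C.orbit_subset hcr (C.right_mem_line c r) (Ne.symm hcr) ⟨⟨a, a.2.1⟩, rfl⟩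
      · rintro z ⟨hz, hzc⟩
        obtain ⟨a, ha, rfl⟩ := C.exists_B_smul hor hcl' hz hzc
        exact ⟨⟨a, ha⟩, rfl⟩
    have h := Nat.card_congr (orbitProdStabilizerEquivGroup J r)
    have h2 := C.card_line_eq hcr
    rw [C.line_diff_card, C.q_eq hcr (Ne.symm huc)] at h2
    rw [Nat.card_prod, Nat.card_coe_set_eq, he, ho', Nat.add_right_cancel h2] at h
    exact h.symm
  have heq : ∀ r ∈ C.line u v, J ⊓ C.B c r = I := by
    intro r hr'
    refine (C.eq_of_le_of_card (le_inf inf_le_left fun (a : G) (ha : a ∈ I) => C.mem_B.2 ⟨ha.1.1, hIl r hr' a ha⟩) ?_).symm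
    have h1 := hst r hr'
    rw [hst u (C.left_mem_line u v)] at h1
    exact Nat.eq_of_mul_eq_mul_left (by have := C.two_le_q (Ne.symm huc); omega) h1
  obtain ⟨a, ha, hau⟩ := hmove u (C.left_mem_line u v)
  obtain ⟨z, hz, haz⟩ := C.exists_fix_mem_line huv hcl ha.1
  have : a ∈ I := heq z hz ▸ Subgroup.mem_inf.2 ⟨ha, ha.1, haz⟩
  exact hau this.2.2

/-- Transport of a shear homomorphism by a shear fixing its source component. -/
theorem Sv_transport {u v c : X} (hv : v ∈ Φ.H) (hc : c ∈ Φ.H) {e : G}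
    (he : e ∈ C.B c Φ.o) (heu : e • u = u) (hev : e • v ∈ Φ.H) {f : Φ.M u →+ Φ.M v}
    (hf : f ∈ Φ.Sv u hv) :
    ∃ g ∈ Φ.Sv u hev, ∀ x : Φ.M u, (g x : Φ.V) = Φ.cj hc he.1 (f x) := by
  obtain ⟨d, hd, hf⟩ := hf
  have hd' : e * d * e⁻¹ ∈ C.B (e • v) Φ.o := by
    have := (C.conj_mem_B_iff e v Φ.o d).2 hd
    rwa [he.2] at this
  refine ⟨AddMonoidHom.mk' (fun x => ⟨Φ.cj hc he.1 (f x), Φ.cj_mem hc he.1 (f x).2⟩)
    fun x y => Subtype.ext (by simp), ⟨_, hd', fun x => ?_⟩, fun x => rfl⟩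
  show Φ.cj hc he.1 (f x) = _
  have hfix : Φ.cj hc he.1 (x : Φ.V) = x := by
    rcases eq_or_ne u c with rfl | huc
    · exact Φ.cj_fix hc he.1 x.2
    · exact Φ.cj_fix_of_fix hc he heu huc x.2
  have hcomp : Φ.cj hev hd'.1 (Φ.cj hc he.1 (x : Φ.V)) = Φ.cj hc he.1 (Φ.cj hv hd.1 x) :=
    Φ.val_inj (by simp only [val_cj]; group)
  rw [hfix] at hcomp
  rw [hcomp, hf, map_sub, hfix]

/-- The graph of a shear homomorphism gives a shear homomorphism to the third point. -/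
theorem Sv_id_add {u v w : X} (hu : u ∈ Φ.H) (hv : v ∈ Φ.H) (huv : u ≠ v)
    {f : Φ.M u →+ Φ.M v} (hf : f ∈ Φ.Sv u hv) (hw : w ∈ C.line u v) (hwu : w ≠ u) (hwH : w ∈ Φ.H)
    (hgr : ∀ x : Φ.M u, (x : Φ.V) + f x ∈ Φ.M w) :
    ∃ g ∈ Φ.Sv u hwH, ∀ x : Φ.M u, (g x : Φ.V) = x + f x := by
  have hov : Φ.o ≠ v := fun h => Φ.ho (h ▸ hv)
  have hul : u ∉ C.line Φ.o v := fun h => huv
    (Φ.hH.unique hov Φ.ho hu hv h (C.right_mem_line Φ.o v))
  obtain ⟨e, he, hew⟩ := C.exists_B_smul hov hul hw hwu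
  have hev : e • v ∈ Φ.H := hew ▸ hwH
  obtain ⟨g, hg, hge⟩ := Φ.Sv_transport hv hu he (C.fix u e he.1) hev hf
  subst hew
  refine ⟨g, hg, fun x => ?_⟩
  have h1 := Φ.cj_sub_mem hu he (f x : Φ.V)
  rw [← hge] at h1
  have h2 : (g x : Φ.V) - ((x : Φ.V) + f x) ∈ Φ.M (e • v) := sub_mem (g x).2 (hgr x)
  have h3 : (g x : Φ.V) - ((x : Φ.V) + f x) ∈ Φ.M u := by
    have := sub_mem h1 x.2
    rwa [sub_sub, add_comm (f x : Φ.V)] at this
  exact sub_eq_zero.1 (Φ.M_disj hwu h2 h3)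

/-- Composition: some non-zero shear homomorphism `M v → M w` carries `Sv u v` into `Sv u w`. -/
theorem exists_Sv_mul {u v w : X} (hu : u ∈ Φ.H) (hv : v ∈ Φ.H) (hw : w ∈ Φ.H) (huv : u ≠ v)
    (huw : u ≠ w) (hvw : v ≠ w) :
    ∃ χ ∈ Φ.Sv v hw, χ ≠ 0 ∧ ∀ f ∈ Φ.Sv u hv, χ.comp f ∈ Φ.Sv u hw := by
  -- a centre `c` on the line `v w` and a shear fixing `u` carrying `v` to `w`
  obtain ⟨c, hc, hcv, hcw, hwl, e, he, heu, hev⟩ : ∃ c ∈ Φ.H, c ≠ v ∧ c ≠ w ∧ w ∈ C.line v c ∧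
      ∃ e ∈ C.B c Φ.o, e • u = u ∧ e • v = w := by
    by_cases hl : u ∈ C.line v w
    · have hwl : w ∈ C.line u v := by
        rw [C.line_unique hvw huv hl (C.left_mem_line v w)]
        exact C.right_mem_line v w
      have hov : Φ.o ≠ v := fun h => Φ.ho (h ▸ hv)
      have hul : u ∉ C.line Φ.o v := fun h => huv
        (Φ.hH.unique hov Φ.ho hu hv h (C.right_mem_line Φ.o v))
      obtain ⟨e, he, hew⟩ := C.exists_B_smul hov hul hwl huw.symm
      exact ⟨u, hu, huv, huw, by rwa [C.line_symm huv.symm], e, he, C.fix u e he.1, hew⟩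
    · haveI := C.finX
      obtain ⟨c, hcl, hcv, hcw⟩ : ∃ c ∈ C.line v w, c ≠ v ∧ c ≠ w := by
        by_contra h
        push Not at h
        have h1 : C.line v w ⊆ {v, w} := fun z hz => by
          by_cases hzv : z = v
          · exact Or.inl hzv
          · exact Or.inr (h z hz hzv)
        have h2 := Set.ncard_le_ncard h1 (Set.toFinite _)
        rw [C.card_line_eq hvw, Set.ncard_pair hvw] at h2
        have := C.two_le_q hvw
        omega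
      have hlcv : C.line c v = C.line v w := C.line_unique hvw hcv hcl (C.left_mem_line v w)
      obtain ⟨e, he, heu, hev⟩ := Φ.exists_shear hu (Φ.line_H hv hw hvw hcl) hcv hv
        (by rw [hlcv]; exact hl) (r := w) (by rw [hlcv]; exact C.right_mem_line v w) hcw.symm
      exact ⟨c, Φ.line_H hv hw hvw hcl, hcv, hcw,
        by rw [C.line_symm hcv.symm, hlcv]; exact C.right_mem_line v w, e, he, heu, hev⟩
  let γ : Φ.M v →+ Φ.M c := AddMonoidHom.mk' (fun x => ⟨_, Φ.cj_sub_mem hc he (x : Φ.V)⟩)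
    fun x y => Subtype.ext (by simp only [AddSubgroup.coe_add, map_add]; abel)
  have hγ : γ ∈ Φ.Sv v hc := ⟨e, he, fun x => rfl⟩
  have hgr : ∀ x : Φ.M v, (x : Φ.V) + γ x ∈ Φ.M w := fun x => by
    show (x : Φ.V) + (Φ.cj hc he.1 x - x) ∈ Φ.M w
    rw [add_sub_cancel, ← hev]
    exact Φ.cj_mem hc he.1 x.2
  obtain ⟨χ, hχ, hχe⟩ := Φ.Sv_id_add hv hc hcv.symm hγ hwl hvw.symm hw hgr
  refine ⟨χ, hχ, fun h0 => ?_, fun f hf => ?_⟩
  · obtain ⟨x, hx, hx0⟩ := Φ.exists_ne_zero hv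
    have := hχe ⟨x, hx⟩
    rw [h0, AddMonoidHom.zero_apply, AddSubgroup.coe_zero] at this
    have h4 : x = -(γ ⟨x, hx⟩ : Φ.V) := eq_neg_of_add_eq_zero_left this.symm
    exact hx0 (Φ.M_disj hcv.symm hx (by rw [h4]; exact neg_mem (γ _).2))
  · subst hev
    obtain ⟨g, hg, hge⟩ := Φ.Sv_transport hv hc he heu hw hf
    convert hg
    refine AddMonoidHom.ext fun x => Subtype.ext ?_
    rw [AddMonoidHom.comp_apply, hχe, hge]
    show (f x : Φ.V) + (Φ.cj hc he.1 (f x) - f x) = _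
    rw [add_sub_cancel]

end Frame

end H13.ONan.Conf
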