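import Cfsg.Agent.H13.ONan.Flats

/-!
O'Nan's configuration: the translation group of a hyperplane, regular on the complement, and its
partition into the elation groups of the points of the hyperplane.
-/

set_option autoImplicit false
set_option linter.style.haveILetI false
set_option linter.unusedSectionVars false

namespace H13.ONan.Conf

open MulAction

variable {G X : Type*} [Group G] [MulAction G X] {p : ℕ} [Fact p.Prime] (C : Conf G X p)
  {H : Set X}

/-- All translations with axis `H`. -/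
def tgrp (H : Set X) : Subgroup G := Subgroup.closure {t | ∃ u ∈ H, t ∈ C.pfix u H}

theorem pfix_le_tgrp {u : X} (hu : u ∈ H) : C.pfix u H ≤ C.tgrp H :=
  fun t ht => Subgroup.subset_closure ⟨u, hu, ht⟩

variable {C}

theorem IsHyp.insert_cl (hH : C.IsHyp H) {u : X} (hu : u ∈ H) : C.cl (insert u H) = H :=
  Set.Subset.antisymm (C.cl_subset hH.flat (Set.insert_subset hu le_rfl))
    ((Set.subset_insert _ _).trans (C.subset_cl _))

theorem IsHyp.eq_one_of_fix (hH : C.IsHyp H) {g : G} {x r : X} (hg : g ∈ C.A x)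
    (hfix : ∀ h ∈ H, g • h = h) (hr : r ∉ H) (hgr : g • r = r) : g = 1 := by
  refine C.faithful g fun v => ?_
  have hv : v ∈ C.cl (insert r H) := by rw [hH.cl_eq_univ hr]; trivial
  exact C.cl_subset (C.fixedBy_flat hg) (Set.insert_subset hgr hfix) hv

theorem IsHyp.exists_trans (hH : C.IsHyp H) {u r r' : X} (hu : u ∈ H) (hr : r ∉ H)
    (hr' : r' ∈ C.line u r) (hru : r' ≠ u) : ∃ t ∈ C.pfix u H, t • r = r' :=
  C.exists_elation (by rwa [hH.insert_cl hu]) hr' hru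

theorem IsHyp.smul_not_mem (_hH : C.IsHyp H) {g : G} (hfix : ∀ h ∈ H, g • h = h) {r : X}
    (hr : r ∉ H) : g • r ∉ H := fun h =>
  hr ((smul_left_cancel g (hfix _ h)).symm ▸ h)

theorem IsHyp.tgrp_fix (_hH : C.IsHyp H) {t : G} (ht : t ∈ C.tgrp H) : ∀ h ∈ H, t • h = h := by
  have hle : C.tgrp H ≤ fixingSubgroup G H := by
    refine (Subgroup.closure_le _).2 ?_
    rintro s ⟨u, -, hs⟩
    exact hs.2
  exact fun h hh => (mem_fixingSubgroup_iff G).1 (hle ht) h hh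

theorem IsHyp.tgrp_comm (_hH : C.IsHyp H) {s t : G} (hs : s ∈ C.tgrp H) (ht : t ∈ C.tgrp H) :
    s * t = t * s := by
  have hgen : ∀ a ∈ {t | ∃ u ∈ H, t ∈ C.pfix u H}, ∀ b ∈ {t | ∃ u ∈ H, t ∈ C.pfix u H},
      a * b = b * a := by
    rintro a ⟨u, hu, ha⟩ b ⟨v, hv, hb⟩
    rcases eq_or_ne u v with rfl | huv
    · exact C.comm u a ha.1 b hb.1
    · exact C.B_comm huv ⟨ha.1, (C.mem_pfix.1 ha).2 v hv⟩ ⟨hb.1, (C.mem_pfix.1 hb).2 u hu⟩
  letI := Subgroup.isMulCommutative_closure hgen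
  exact congrArg Subtype.val (mul_comm' (⟨s, hs⟩ : Subgroup.closure _) ⟨t, ht⟩)

theorem IsHyp.tgrp_pow (hH : C.IsHyp H) {t : G} (ht : t ∈ C.tgrp H) : t ^ p = 1 := by
  induction ht using Subgroup.closure_induction with
  | mem a ha => obtain ⟨u, -, ha⟩ := ha; exact C.exp u a ha.1
  | one => exact one_pow p
  | mul a b ha hb iha ihb => rw [Commute.mul_pow (hH.tgrp_comm ha hb), iha, ihb, one_mul]
  | inv a _ iha => rw [inv_pow, iha, inv_one]

theorem IsHyp.exists_move (hH : C.IsHyp H) {r r' : X} (hr : r ∉ H) (hr' : r' ∉ H) (hne : r ≠ r') :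
    ∃ u ∈ H, u ∈ C.line r r' ∧ ∃ t ∈ C.pfix u H, t • r = r' := by
  obtain ⟨u, hu, hl⟩ := hH.meets r r' hne
  have hur : u ≠ r := fun h => hr (h ▸ hu)
  have hl' : r' ∈ C.line u r := by
    rw [C.line_symm hur, C.line_eq_of_mem hne hl hur]
    exact C.right_mem_line r r'
  exact ⟨u, hu, hl, hH.exists_trans hu hr hl' fun h => hr' (h ▸ hu)⟩

theorem IsHyp.tgrp_regular (hH : C.IsHyp H) {t : G} (ht : t ∈ C.tgrp H) {r : X} (hr : r ∉ H)
    (htr : t • r = r) : t = 1 := by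
  refine C.faithful t fun v => ?_
  by_cases hv : v ∈ H
  · exact hH.tgrp_fix ht v hv
  rcases eq_or_ne r v with rfl | hne
  · exact htr
  obtain ⟨u, hu, -, s, hs, rfl⟩ := hH.exists_move hr hv hne
  rw [← mul_smul, hH.tgrp_comm ht (C.pfix_le_tgrp hu hs), mul_smul, htr]

theorem IsHyp.tgrp_eq_of_smul (hH : C.IsHyp H) {s t : G} (hs : s ∈ C.tgrp H) (ht : t ∈ C.tgrp H)
    {r : X} (hr : r ∉ H) (h : s • r = t • r) : s = t := by
  have := hH.tgrp_regular (mul_mem (inv_mem ht) hs) hr (by rw [mul_smul, h, inv_smul_smul])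
  exact (inv_mul_eq_one.1 this).symm

theorem IsHyp.exists_mem_pfix (hH : C.IsHyp H) {o : X} (ho : o ∉ H) {t : G} (ht : t ∈ C.tgrp H)
    (ht1 : t ≠ 1) : ∃ u ∈ H, u ∈ C.line o (t • o) ∧ t ∈ C.pfix u H := by
  have hne : o ≠ t • o := fun h => ht1 (hH.tgrp_regular ht ho h.symm)
  obtain ⟨u, hu, hl, s, hs, hse⟩ :=
    hH.exists_move ho (hH.smul_not_mem (hH.tgrp_fix ht) ho) hne
  exact ⟨u, hu, hl, hH.tgrp_eq_of_smul (C.pfix_le_tgrp hu hs) ht ho hse ▸ hs⟩

theorem IsHyp.comp_unique (_hH : C.IsHyp H) {u v : X} {t : G} (htu : t ∈ C.pfix u H)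
    (htv : t ∈ C.pfix v H) (ht1 : t ≠ 1) : u = v := by
  by_contra h
  exact ht1 (C.eq_one_of_mem h htu.1 htv.1)

theorem IsHyp.q_pfix (hH : C.IsHyp H) {u o : X} (hu : u ∈ H) (ho : o ∉ H) :
    Nat.card (C.pfix u H) = C.q u o := by
  have hne : u ≠ o := fun h => ho (h ▸ hu)
  have h := C.card_orbit u o
  rw [← h, ← Nat.card_coe_set_eq]
  refine Nat.card_congr (Equiv.ofBijective
    (fun t : C.pfix u H => (⟨(t : G) • o, ⟨⟨t, t.2.1⟩, rfl⟩⟩ : orbit (C.A u) o)) ⟨?_, ?_⟩)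
  · intro s t hst
    exact Subtype.ext (hH.tgrp_eq_of_smul (C.pfix_le_tgrp hu s.2) (C.pfix_le_tgrp hu t.2) ho
      (congrArg Subtype.val hst))
  · rintro ⟨r, hr⟩
    rw [C.orbit_eq hne] at hr
    obtain ⟨t, ht, rfl⟩ := hH.exists_trans hu ho hr.1 hr.2
    exact ⟨⟨t, ht⟩, rfl⟩

theorem IsHyp.card_pfix_eq (hH : C.IsHyp H) {u v : X} (hu : u ∈ H) (hv : v ∈ H) :
    Nat.card (C.pfix u H) = Nat.card (C.pfix v H) := by
  obtain ⟨o, ho⟩ := hH.proper
  rw [hH.q_pfix hu ho, hH.q_pfix hv ho,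
    C.q_eq (fun h : u = o => ho (h ▸ hu)) (fun h : v = o => ho (h ▸ hv))]

/-- The product of two translation groups consists of translations of the joining line. -/
theorem IsHyp.mul_mem_line (hH : C.IsHyp H) {u v : X} (hu : u ∈ H) (hv : v ∈ H) (huv : u ≠ v)
    {s t : G} (hs : s ∈ C.pfix u H) (ht : t ∈ C.pfix v H) :
    ∃ w ∈ C.line u v, s * t ∈ C.pfix w H := by
  rcases eq_or_ne t 1 with rfl | ht1
  · exact ⟨u, C.left_mem_line u v, by simpa using hs⟩
  rcases eq_or_ne s 1 with rfl | hs1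
  · exact ⟨v, C.right_mem_line u v, by simpa using ht⟩
  have hst : s * t ≠ 1 := fun h => huv (hH.comp_unique hs
    (eq_inv_of_mul_eq_one_left h ▸ inv_mem ht) hs1)
  obtain ⟨o, ho⟩ := hH.proper
  have hstG : s * t ∈ C.tgrp H := mul_mem (C.pfix_le_tgrp hu hs) (C.pfix_le_tgrp hv ht)
  obtain ⟨w, hw, hwl, hwT⟩ := hH.exists_mem_pfix ho hstG hst
  refine ⟨w, ?_, hwT⟩
  set r₁ := t • o with hr₁
  set r := (s * t) • o with hr
  have hr₁o : r₁ ≠ o := fun h => ht1 (hH.tgrp_regular (C.pfix_le_tgrp hv ht) ho h)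
  have hvo : v ≠ o := fun h => ho (h ▸ hv)
  have hr₁l : r₁ ∈ C.line v o := C.A_line ht.1 (C.right_mem_line v o)
  have hr₁H : r₁ ∉ H := hH.smul_not_mem (C.mem_pfix.1 ht).2 ho
  have hr₁v : r₁ ≠ v := fun h => hr₁H (h ▸ hv)
  have hl₁ : C.line r₁ o = C.line v o := C.line_unique hvo hr₁o hr₁l (C.right_mem_line v o)
  have hrl : r ∈ C.line u r₁ := by
    rw [hr, mul_smul]
    exact C.A_line hs.1 (C.right_mem_line u r₁)
  have hr₁r : r₁ ≠ r := fun h => hs1 (hH.tgrp_regular (C.pfix_le_tgrp hu hs) hr₁H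
    (by rw [hr₁, ← mul_smul]; exact h.symm))
  have hur₁ : u ≠ r₁ := fun h => hr₁H (h ▸ hu)
  have hl₂ : C.line r₁ r = C.line u r₁ := C.line_unique hur₁ hr₁r (C.right_mem_line u r₁) hrl
  have hnc : r ∉ C.line r₁ o := by
    intro h
    have h1 : C.line r₁ r = C.line r₁ o := C.line_unique hr₁o hr₁r (C.left_mem_line r₁ o) h
    rw [hl₂, hl₁] at h1
    exact huv (hH.unique hvo.symm ho hu hv
      (by rw [C.line_symm hvo.symm, ← h1]; exact C.left_mem_line u r₁)
      (C.right_mem_line o v))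
  obtain ⟨z, hz1, hz2⟩ := C.veblen hr₁o hnc (u := v) (r := u)
    (by rw [hl₁]; exact C.left_mem_line v o) hr₁v.symm
    (by rw [hl₂]; exact C.left_mem_line u r₁) hur₁
  rw [C.line_symm huv.symm] at hz2
  have hzH : z ∈ H := hH.flat u hu v hv huv hz2
  have hor : o ≠ r := fun h => hst (hH.tgrp_regular hstG ho h.symm)
  rwa [hH.unique hor ho hzH hw hz1 hwl] at hz2

/-- Conversely every translation of the line `u v` is such a product. -/
theorem IsHyp.exists_mul_eq (hH : C.IsHyp H) {u v w : X} (hu : u ∈ H) (hv : v ∈ H) (huv : u ≠ v)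
    (hw : w ∈ C.line u v) {g : G} (hg : g ∈ C.pfix w H) :
    ∃ s ∈ C.pfix u H, ∃ t ∈ C.pfix v H, s * t = g := by
  haveI := C.fin
  haveI := C.finX
  haveI : Fintype X := Fintype.ofFinite X
  classical
  by_contra hne
  push Not at hne
  obtain ⟨o, ho⟩ := hH.proper
  set N := C.q u o with hN
  have hwH : w ∈ H := hH.flat u hu v hv huv hw
  have hNu : Nat.card (C.pfix u H) = N := hH.q_pfix hu ho
  have hNv : Nat.card (C.pfix v H) = N := (hH.card_pfix_eq hv hu).trans hNu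
  set U := (insert (1 : G) ((C.line u v).toFinset.biUnion fun z => C.fs (C.pfix z H) \ {1})) with hU
  set P := (C.fs (C.pfix u H) ×ˢ C.fs (C.pfix v H)).image fun st => st.1 * st.2 with hP
  have hsub : P ⊆ U := by
    intro d hd
    obtain ⟨⟨s, t⟩, hst, rfl⟩ := Finset.mem_image.1 hd
    rw [Finset.mem_product, mem_fs, mem_fs] at hst
    obtain ⟨z, hz, hzT⟩ := hH.mul_mem_line hu hv huv hst.1 hst.2
    rw [hU, Finset.mem_insert, Finset.mem_biUnion]
    by_cases h1 : s * t = 1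
    · exact Or.inl h1
    · refine Or.inr ⟨z, Set.mem_toFinset.2 hz, ?_⟩
      rw [Finset.mem_sdiff, mem_fs, Finset.mem_singleton]
      exact ⟨hzT, h1⟩
  have hPc : P.card = N * N := by
    rw [hP, Finset.card_image_of_injOn, Finset.card_product, card_fs, card_fs, hNu, hNv]
    rintro ⟨s, t⟩ hst ⟨s', t'⟩ hst' heq
    rw [Finset.mem_coe, Finset.mem_product, mem_fs, mem_fs] at hst hst'
    have h1 : s'⁻¹ * s = t' * t⁻¹ := by
      rw [eq_mul_inv_iff_mul_eq, mul_assoc, inv_mul_eq_iff_eq_mul]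
      exact heq
    have h2 : s'⁻¹ * s = 1 := by
      by_contra hh
      exact huv (hH.comp_unique (mul_mem (inv_mem hst'.1) hst.1)
        (h1 ▸ mul_mem hst'.2 (inv_mem hst.2)) hh)
    rw [h2, eq_comm, mul_inv_eq_one] at h1
    exact Prod.ext (inv_mul_eq_one.1 h2).symm h1.symm
  have hUc : U.card ≤ 1 + (N + 1) * (N - 1) := by
    rw [hU]
    refine (Finset.card_insert_le _ _).trans ?_
    rw [add_comm]
    refine Nat.add_le_add_left ((Finset.card_biUnion_le).trans ?_) 1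
    rw [Finset.sum_const_nat (m := N - 1)]
    · rw [← Set.ncard_eq_toFinset_card', C.card_line_eq huv, C.q_eq huv (fun h : u = o => ho (h ▸ hu))]
    · intro z hz
      rw [Finset.card_sdiff_of_subset (by simp [mem_fs, one_mem]), card_fs, Finset.card_singleton,
        hH.card_pfix_eq (hH.flat u hu v hv huv (Set.mem_toFinset.1 hz)) hu, hNu]
  have h1 : 1 + (N + 1) * (N - 1) = N * N := by
    have := C.two_le_q (show u ≠ o from fun h => ho (h ▸ hu))
    obtain ⟨M, hM⟩ : ∃ M, N = M + 1 := ⟨N - 1, by omega⟩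
    rw [hM, Nat.add_sub_cancel]
    ring
  have hgU : g ∈ U := by
    rw [hU, Finset.mem_insert, Finset.mem_biUnion]
    by_cases hg1 : g = 1
    · exact Or.inl hg1
    · refine Or.inr ⟨w, Set.mem_toFinset.2 hw, ?_⟩
      rw [Finset.mem_sdiff, mem_fs, Finset.mem_singleton]
      exact ⟨hg, hg1⟩
  have hgP : g ∈ P := (Finset.eq_of_subset_of_card_le hsub (hUc.trans (h1.trans hPc.symm).le)) ▸ hgU
  obtain ⟨⟨s, t⟩, hst, hge⟩ := Finset.mem_image.1 hgP
  rw [Finset.mem_product, mem_fs, mem_fs] at hst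
  exact hne s hst.1 t hst.2 hge

end H13.ONan.Conf
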