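import Cfsg.Agent.H13.ONan.Coord

/-!
O'Nan's configuration: the elements of the groups `A x` are exactly the transvections of the model.
-/

set_option autoImplicit false
set_option linter.style.haveILetI false
set_option linter.unusedSectionVars false

namespace H13.ONan.Conf.Model

open MulAction

variable {G X : Type*} [Group G] [MulAction G X] {p : ℕ} [Fact p.Prime] {C : Conf G X p}
  {F : Type*} [Field F] {W : Type*} [AddCommGroup W] [Module F W] (m : Model C F W)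

/-- Three points not on a line give independent vectors. -/
theorem exists_independent {z₁ z₂ : X} (hne : z₁ ≠ z₂) {w₁ w₂ : W} (h₁ : m.R z₁ w₁)
    (h₂ : m.R z₂ w₂) : ∃ w, ∀ s t : F, s • w₁ + t • w₂ ≠ w := by
  obtain ⟨z, hz⟩ := C.exists_not_mem_line hne
  obtain ⟨w, hw⟩ := m.ex z
  exact ⟨w, fun s t h => hz ((m.line hne h₁ h₂ hw).2 ⟨s, t, h⟩)⟩

/-- The vectors representing points of a hyperplane form the kernel of a functional. -/
theorem exists_functional {H : Set X} (hH : C.IsHyp H) :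
    ∃ φ : W →ₗ[F] F, (∀ z w, m.R z w → (φ w = 0 ↔ z ∈ H)) ∧ ∃ o w₀, m.R o w₀ ∧ φ w₀ = 1 := by
  obtain ⟨o, ho⟩ := hH.proper
  obtain ⟨w₀, hw₀⟩ := m.ex o
  let W' : Submodule F W :=
    { carrier := {w | ∀ z, m.R z w → z ∈ H}
      zero_mem' := fun z hz => absurd rfl (m.ne hz)
      add_mem' := fun {u v} hu hv z hz => by
        by_cases hu0 : u = 0
        · rw [hu0, zero_add] at hz; exact hv z hz
        by_cases hv0 : v = 0
        · rw [hv0, add_zero] at hz; exact hu z hz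
        obtain ⟨z₁, h₁⟩ := m.surj hu0
        obtain ⟨z₂, h₂⟩ := m.surj hv0
        rcases eq_or_ne z₁ z₂ with rfl | hne
        · obtain ⟨c, rfl⟩ := m.prop h₁ h₂
          rw [← one_smul F u, smul_smul, mul_one, ← add_smul] at hz
          have hc : 1 + c ≠ 0 := fun h => m.ne hz (by rw [h, zero_smul])
          exact m.uniq (m.smul h₁ hc) hz ▸ hu z₁ h₁
        · exact hH.flat z₁ (hu z₁ h₁) z₂ (hv z₂ h₂) hne
            ((m.line hne h₁ h₂ hz).2 ⟨1, 1, by rw [one_smul, one_smul]⟩)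
      smul_mem' := fun c u hu z hz => by
        rcases eq_or_ne c 0 with rfl | hc
        · exact absurd (zero_smul F u) (m.ne hz)
        · obtain ⟨z₁, h₁⟩ := m.surj (fun h0 : u = 0 => m.ne hz (by rw [h0, smul_zero]))
          exact m.uniq (m.smul h₁ hc) hz ▸ hu z₁ h₁ }
  have hmem : ∀ z w, m.R z w → (w ∈ W' ↔ z ∈ H) := fun z w hw =>
    ⟨fun h => h z hw, fun hz z' hw' => m.uniq hw hw' ▸ hz⟩
  have hw₀n : w₀ ∉ W' := fun h => ho (h o hw₀)
  have hex : ∀ w, ∃ c : F, w - c • w₀ ∈ W' := by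
    intro w
    by_cases hw : w ∈ W'
    · exact ⟨0, by rwa [zero_smul, sub_zero]⟩
    obtain ⟨z, hz⟩ := m.surj (fun h0 : w = 0 => hw (h0 ▸ W'.zero_mem))
    rcases eq_or_ne o z with rfl | hne
    · obtain ⟨c, hc⟩ := m.prop hw₀ hz
      exact ⟨c, by rw [hc, sub_self]; exact W'.zero_mem⟩
    obtain ⟨h, hh, hl⟩ := hH.meets o z hne
    obtain ⟨k, hk⟩ := m.ex h
    obtain ⟨s, t, hst⟩ := (m.line hne hw₀ hz hk).1 hl
    have hkW : k ∈ W' := (hmem h k hk).2 hh
    have ht : t ≠ 0 := by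
      rintro rfl
      rw [zero_smul, add_zero] at hst
      rcases eq_or_ne s 0 with rfl | hs
      · exact m.ne hk (by rw [← hst, zero_smul])
      · exact ho (m.uniq (m.smul hw₀ hs) (hst ▸ hk) ▸ hh)
    refine ⟨-(t⁻¹ * s), ?_⟩
    have := W'.smul_mem t⁻¹ hkW
    rw [← hst, smul_add, smul_smul, inv_smul_smul₀ ht] at this
    rwa [neg_smul, sub_neg_eq_add, add_comm]
  have huniq : ∀ w (c d : F), w - c • w₀ ∈ W' → w - d • w₀ ∈ W' → c = d := by
    intro w c d h1 h2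
    by_contra hne
    have h3 : (d - c) • w₀ ∈ W' := by
      have := W'.sub_mem h1 h2
      rwa [sub_sub_sub_cancel_left, ← sub_smul] at this
    have := W'.smul_mem (d - c)⁻¹ h3
    rw [inv_smul_smul₀ (sub_ne_zero.2 (Ne.symm hne))] at this
    exact hw₀n this
  choose f hf using hex
  refine ⟨{ toFun := f, map_add' := fun u v => ?_, map_smul' := fun c u => ?_ },
    fun z w hw => ?_, o, w₀, hw₀, ?_⟩
  · refine huniq _ _ _ (hf _) ?_
    have := W'.add_mem (hf u) (hf v)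
    rwa [add_smul, ← sub_sub, show u + v - f u • w₀ - f v • w₀ = u - f u • w₀ + (v - f v • w₀) by abel]
  · refine huniq _ _ _ (hf _) ?_
    have := W'.smul_mem c (hf u)
    rwa [RingHom.id_apply, smul_eq_mul, mul_smul, ← smul_sub]
  · show f w = 0 ↔ z ∈ H
    rw [← hmem z w hw]
    exact ⟨fun h => by have := hf w; rwa [h, zero_smul, sub_zero] at this,
      fun h => huniq w _ _ (hf w) (by rwa [zero_smul, sub_zero])⟩
  · show f w₀ = 1
    exact huniq w₀ _ _ (hf w₀) (by rw [one_smul, sub_self]; exact W'.zero_mem)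

/-- An element of `A x` fixing the kernel of `φ` pointwise is a transvection. -/
theorem acts {x : X} {a : G} (ha : a ∈ C.A x) {φ : W →ₗ[F] F} {v : W} (hv : φ v = 0)
    (hx : m.R x v) (hfix : ∀ z w, m.R z w → φ w = 0 → a • z = z) {r : X} {w₀ : W}
    (hr : m.R r w₀) (hw₀ : φ w₀ = 1) (har : m.R (a • r) (w₀ + v)) :
    ∀ z w, m.R z w → m.R (a • z) (w + φ w • v) := by
  have step : ∀ {z₀ z : X} {w k : W}, m.R z₀ w → φ w = 1 → m.R (a • z₀) (w + v) → φ k = 0 →
      (∀ c : F, c • v ≠ k) → m.R z (w + k) → m.R (a • z) (w + k + v) := by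
    intro z₀ z w k hw hw1 haw hk hkv hz
    have hk0 : k ≠ 0 := fun h => hkv 0 (by rw [zero_smul, h])
    obtain ⟨h, hh⟩ := m.surj hk0
    have hne : z₀ ≠ h := by
      rintro rfl
      obtain ⟨c, hc⟩ := m.prop hh hw
      rw [← hc, map_smul, hk, smul_zero] at hw1
      exact zero_ne_one hw1
    have hzl : z ∈ C.line z₀ h := (m.line hne hw hh hz).2 ⟨1, 1, by rw [one_smul, one_smul]⟩
    have h1 := (C.smul_mem_line_iff a z₀ h z).2 hzl
    rw [hfix h k hh hk] at h1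
    have hne' : a • z₀ ≠ h := fun he => hne (smul_left_cancel a (he.trans (hfix h k hh hk).symm))
    obtain ⟨w', hw'⟩ := m.ex (a • z)
    obtain ⟨s, t, hst⟩ := (m.line hne' haw hh hw').1 h1
    have hxz : x ≠ z := by
      rintro rfl
      obtain ⟨c, hc⟩ := m.prop hx hz
      have := congrArg φ hc
      rw [map_smul, hv, smul_zero, map_add, hw1, hk, add_zero] at this
      exact zero_ne_one this
    obtain ⟨s', t', hst'⟩ := (m.line hxz hx hz hw').1 (C.A_line ha (C.right_mem_line x z))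
    have he := hst.trans hst'.symm
    have h2 : s = t' := by
      simpa [hv, hk, hw1] using congrArg φ he
    subst h2
    have h3 : (t - s) • k = (s' - s) • v := by
      rw [smul_add, smul_add, ← sub_eq_zero] at he
      rw [sub_smul, sub_smul, ← sub_eq_zero, ← he]
      abel
    have h4 : t = s := by
      by_contra hts
      refine hkv ((t - s)⁻¹ * (s' - s)) ?_
      rw [mul_smul, ← h3, inv_smul_smul₀ (sub_ne_zero.2 hts)]
    subst h4
    have hs0 : t ≠ 0 := fun h0 => m.ne hw' (by rw [← hst, h0, zero_smul, zero_smul, add_zero])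
    have : w + k + v = t⁻¹ • w' := by
      rw [← hst, ← smul_add, inv_smul_smul₀ hs0]; abel
    rw [this]
    exact m.smul hw' (inv_ne_zero hs0)
  have hxr : x ≠ r := by
    rintro rfl
    obtain ⟨c, hc⟩ := m.prop hx hr
    rw [← hc, map_smul, hv, smul_zero] at hw₀
    exact zero_ne_one hw₀
  obtain ⟨k₀, hk₀, hk₀v⟩ : ∃ k, φ k = 0 ∧ ∀ c : F, c • v ≠ k := by
    obtain ⟨w, hw⟩ := m.exists_independent hxr hx hr
    refine ⟨w - φ w • w₀, by rw [map_sub, map_smul, hw₀, smul_eq_mul, mul_one, sub_self],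
      fun c hc => hw c (φ w) ?_⟩
    rw [hc, sub_add_cancel]
  have main : ∀ z k, φ k = 0 → m.R z (w₀ + k) → m.R (a • z) (w₀ + k + v) := by
    intro z k hk hz
    by_cases hkv : ∀ c : F, c • v ≠ k
    · exact step hr hw₀ har hk hkv hz
    push Not at hkv
    obtain ⟨c, rfl⟩ := hkv
    have h1 : φ (w₀ + k₀) = 1 := by rw [map_add, hw₀, hk₀, add_zero]
    obtain ⟨z', hz'⟩ := m.surj (w := w₀ + k₀) (fun h => by rw [h, map_zero] at h1; exact zero_ne_one h1)
    have h2 := step hr hw₀ har hk₀ hk₀v hz'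
    have hk2 : φ (c • v - k₀) = 0 := by rw [map_sub, hk, hk₀, sub_zero]
    have hk2v : ∀ d : F, d • v ≠ c • v - k₀ := fun d hd => hk₀v (c - d) (by
      rw [sub_smul, hd, sub_sub_cancel])
    have h3 := step hz' h1 h2 hk2 hk2v (z := z)
      (by rwa [show w₀ + k₀ + (c • v - k₀) = w₀ + c • v by abel])
    rwa [show w₀ + k₀ + (c • v - k₀) = w₀ + c • v by abel] at h3
  intro z w hw
  rcases eq_or_ne (φ w) 0 with h0 | h0
  · rw [h0, zero_smul, add_zero, hfix z w hw h0]; exact hw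
  · have hk : φ ((φ w)⁻¹ • w - w₀) = 0 := by
      rw [map_sub, map_smul, hw₀, smul_eq_mul, inv_mul_cancel₀ h0, sub_self]
    have h1 := main z _ hk (by rw [add_sub_cancel]; exact m.smul hw (inv_ne_zero h0))
    have h2 := m.smul h1 h0
    rwa [add_sub_cancel, smul_add, smul_inv_smul₀ h0] at h2

/-- Every element of `A x` is a transvection. -/
theorem exists_transvection {x : X} {a : G} (ha : a ∈ C.A x) :
    ∃ (v : W) (φ : W →ₗ[F] F), φ v = 0 ∧ ∀ z w, m.R z w → m.R (a • z) (w + φ w • v) := by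
  by_cases ha1 : a = 1
  · exact ⟨0, 0, rfl, fun z w hw => by simpa [ha1] using hw⟩
  have hH := C.isHyp_fixedBy ha ha1
  obtain ⟨φ, hφ, o, w₀, ho, hw₀⟩ := m.exists_functional hH
  obtain ⟨vx, hvx⟩ := m.ex x
  have hoH : a • o ≠ o := fun h => one_ne_zero (hw₀.symm.trans ((hφ o w₀ ho).2 h))
  have hxo : x ≠ o := fun h => hoH (h ▸ C.fix x a ha)
  have hvx0 : φ vx = 0 := (hφ x vx hvx).2 (C.fix x a ha)
  obtain ⟨w', hw'⟩ := m.ex (a • o)
  obtain ⟨s, t, hst⟩ := (m.line hxo hvx ho hw').1 (C.A_line ha (C.right_mem_line x o))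
  have ht : t ≠ 0 := by
    intro ht0
    have h1 : φ w' = 0 := by rw [← hst, ht0, zero_smul, add_zero, map_smul, hvx0, smul_zero]
    exact hoH (smul_left_cancel a ((hφ (a • o) w' hw').1 h1))
  have h1 : m.R (a • o) (w₀ + (t⁻¹ * s) • vx) := by
    have h2 := m.smul hw' (inv_ne_zero ht)
    rwa [← hst, smul_add, smul_smul, inv_smul_smul₀ ht, add_comm] at h2
  have hs : t⁻¹ * s ≠ 0 := by
    intro h0
    rw [h0, zero_smul, add_zero] at h1
    exact hoH (m.uniq h1 ho)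
  have hv : φ ((t⁻¹ * s) • vx) = 0 := by rw [map_smul, hvx0, smul_zero]
  exact ⟨_, φ, hv, m.acts ha hv (m.smul hvx hs)
    (fun z w hw h0 => (hφ z w hw).1 h0) ho hw₀ h1⟩

/-- Every transvection is induced by an element of some `A x`. -/
theorem exists_elem {v : W} (hv0 : v ≠ 0) {φ : W →ₗ[F] F} (hφ0 : φ ≠ 0) (hv : φ v = 0) :
    ∃ x, ∃ a ∈ C.A x, ∀ z w, m.R z w → m.R (a • z) (w + φ w • v) := by
  obtain ⟨x, hx⟩ := m.surj hv0
  obtain ⟨w₀, hw₀⟩ : ∃ w₀, φ w₀ = 1 := by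
    obtain ⟨w, hw⟩ : ∃ w, φ w ≠ 0 := by
      by_contra h
      push Not at h
      exact hφ0 (LinearMap.ext h)
    exact ⟨(φ w)⁻¹ • w, by rw [map_smul, smul_eq_mul, inv_mul_cancel₀ hw]⟩
  have hw₀0 : w₀ ≠ 0 := fun h => by rw [h, map_zero] at hw₀; exact zero_ne_one hw₀
  obtain ⟨r, hr⟩ := m.surj hw₀0
  let H : Set X := {z | ∀ w, m.R z w → φ w = 0}
  have hmem : ∀ {z w}, m.R z w → φ w = 0 → z ∈ H := fun {z w} hw h0 w' hw' => by
    obtain ⟨c, rfl⟩ := m.prop hw hw'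
    rw [map_smul, h0, smul_zero]
  have hrH : r ∉ H := fun h => one_ne_zero (hw₀.symm.trans (h w₀ hr))
  have hH : C.IsHyp H := by
    refine ⟨fun z₁ h₁ z₂ h₂ hne z hz w hw => ?_, fun z₁ z₂ hne => ?_, r, hrH⟩
    · obtain ⟨w₁, hw₁⟩ := m.ex z₁
      obtain ⟨w₂, hw₂⟩ := m.ex z₂
      obtain ⟨s, t, rfl⟩ := (m.line hne hw₁ hw₂ hw).1 hz
      rw [map_add, map_smul, map_smul, h₁ _ hw₁, h₂ _ hw₂, smul_zero, smul_zero, add_zero]
    · obtain ⟨w₁, hw₁⟩ := m.ex z₁
      obtain ⟨w₂, hw₂⟩ := m.ex z₂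
      by_cases h₁ : φ w₁ = 0
      · exact ⟨z₁, hmem hw₁ h₁, C.left_mem_line _ _⟩
      have hk : φ w₁ • w₂ - φ w₂ • w₁ ≠ 0 := by
        intro h0
        rw [sub_eq_zero] at h0
        rcases eq_or_ne (φ w₂) 0 with h2 | h2
        · rw [h2, zero_smul] at h0
          exact (smul_ne_zero h₁ (m.ne hw₂)) h0
        · exact hne (m.uniq (m.smul hw₁ h2) (h0 ▸ m.smul hw₂ h₁))
      obtain ⟨z, hz⟩ := m.surj hk
      refine ⟨z, hmem hz ?_, (m.line hne hw₁ hw₂ hz).2 ⟨-φ w₂, φ w₁, ?_⟩⟩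
      · rw [map_sub, map_smul, map_smul, smul_eq_mul, smul_eq_mul, mul_comm, sub_self]
      · rw [neg_smul]; abel
  have hwv : φ (w₀ + v) = 1 := by rw [map_add, hw₀, hv, add_zero]
  obtain ⟨r', hr'⟩ := m.surj (w := w₀ + v) (fun h => by rw [h, map_zero] at hwv; exact zero_ne_one hwv)
  have hxH : x ∈ H := hmem hx hv
  have hxr : x ≠ r := fun h => hrH (h ▸ hxH)
  have hr'x : r' ≠ x := fun h => one_ne_zero (hwv.symm.trans ((h ▸ hxH : r' ∈ H) _ hr'))
  obtain ⟨a, ha, har⟩ := hH.exists_trans hxH hrH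
    ((m.line hxr hx hr hr').2 ⟨1, 1, by rw [one_smul, one_smul, add_comm]⟩) hr'x
  rw [mem_pfix] at ha
  exact ⟨x, a, ha.1, m.acts ha.1 hv hx (fun z w hw h0 => ha.2 z (hmem hw h0)) hr hw₀
    (har ▸ hr')⟩

end H13.ONan.Conf.Model
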